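import Groth.Agent.GenSubLib.BoundedK
import Groth.Agent.FlatLocus.FibreCrit

/-!
# Finite unions of word images: changes of family and base
-/

set_option autoImplicit false
set_option backward.isDefEq.respectTransparency false
set_option backward.isDefEq.respectTransparency.types false
set_option linter.style.haveILetI false
set_option linter.unusedSectionVars false

universe u v w

open CategoryTheory CategoryTheory.Limits MonoidalCategory CartesianMonoidalCategory MonObj AlgebraicGeometry
open Groth.Agent.GenSubLib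

noncomputable section

namespace Groth.Agent.CommSpreadLib

variable {S : Scheme.{u}} {G : Over S} [GrpObj G] {J : Type v} {X : J → Over S}

/-- The values of the words of a finite set. -/
def eset (f : ∀ j, X j ⟶ G) (Ls : Finset (List (J × Bool))) : Set G.left :=
  ⋃ l ∈ Ls, Set.range (word f l).left

theorem range_subset_of_comp {A B C : Over S} {m : A ⟶ B} {g : A ⟶ C} {h : B ⟶ C} (e : m ≫ h = g) :
    Set.range g.left ⊆ Set.range h.left := by
  rintro _ ⟨p, rfl⟩
  exact ⟨m.left p, by rw [← Scheme.Hom.comp_apply, ← Over.comp_left, e]⟩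

theorem eset_subset_wordSet (f : ∀ j, X j ⟶ G) (Ls : Finset (List (J × Bool))) : eset f Ls ⊆ wordSet f :=
  Set.iUnion₂_subset fun l _ => Set.subset_iUnion (fun l => Set.range (word f l).left) l

theorem eset_mono (f : ∀ j, X j ⟶ G) {Ls Ls' : Finset (List (J × Bool))} (h : Ls ⊆ Ls') : eset f Ls ⊆ eset f Ls' :=
  Set.biUnion_subset_biUnion_left (Finset.coe_subset.2 h)

/-- The words of a family land in any subgroup through which the family factors. -/
theorem wordSet_subset_range {Γ : Over S} [GrpObj Γ] (i : Γ ⟶ G) [IsMonHom i] (f : ∀ j, X j ⟶ G)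
    (h : ∀ j, ∃ q : X j ⟶ Γ, q ≫ i = f j) : wordSet f ⊆ Set.range i.left :=
  Set.iUnion_subset fun l => by
    obtain ⟨q, hq⟩ := exists_factor_word f i h l
    exact range_subset_of_comp hq

/-- Words of a family factoring through another family. -/
theorem word_factor {J' : Type w} {Y : J' → Over S} (f : ∀ j, X j ⟶ G) (g : ∀ j', Y j' ⟶ G) (π : J' → J)
    (u : ∀ j', Y j' ⟶ X (π j')) (h : ∀ j', u j' ≫ f (π j') = g j') :
    ∀ l : List (J' × Bool), ∃ m : src Y l ⟶ src X (l.map fun a => (π a.1, a.2)),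
      m ≫ word f (l.map fun a => (π a.1, a.2)) = word g l := by
  intro l
  induction l with
  | nil => exact ⟨𝟙 _, Category.id_comp _⟩
  | cons a l ih =>
    obtain ⟨m, hm⟩ := ih
    refine ⟨lift (fst _ _ ≫ u a.1) (snd _ _ ≫ m), ?_⟩
    show lift _ _ ≫ word f ((π a.1, a.2) :: l.map fun a => (π a.1, a.2)) = _
    rw [comp_word_cons f (π a.1, a.2), Category.assoc, Category.assoc, hm, word_cons]
    congr 2
    unfold letter
    split
    · exact h a.1
    · rw [GrpObj.comp_inv, h a.1]

theorem range_word_subset {J' : Type w} {Y : J' → Over S} (f : ∀ j, X j ⟶ G) (g : ∀ j', Y j' ⟶ G) (π : J' → J)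
    (u : ∀ j', Y j' ⟶ X (π j')) (h : ∀ j', u j' ≫ f (π j') = g j') (l : List (J' × Bool)) :
    Set.range (word g l).left ⊆ Set.range (word f (l.map fun a => (π a.1, a.2))).left := by
  obtain ⟨m, hm⟩ := word_factor f g π u h l
  exact range_subset_of_comp hm

/-- Isomorphic families have the same words. -/
theorem eset_iso {Y : J → Over S} (f : ∀ j, X j ⟶ G) (g : ∀ j, Y j ⟶ G) (e : ∀ j, Y j ≅ X j)
    (h : ∀ j, (e j).hom ≫ f j = g j) (Ls : Finset (List (J × Bool))) : eset g Ls = eset f Ls := by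
  have hid : ∀ l : List (J × Bool), (l.map fun a => (id a.1, a.2)) = l := fun l => by simp
  refine Set.Subset.antisymm ?_ ?_
  · refine Set.iUnion₂_subset fun l hl => ?_
    refine (range_word_subset f g id (fun j => (e j).hom) h l).trans ?_
    rw [hid]
    exact Set.subset_biUnion_of_mem (u := fun l => Set.range (word f l).left) hl
  · refine Set.iUnion₂_subset fun l hl => ?_
    refine (range_word_subset g f id (fun j => (e j).inv) (fun j => (Iso.inv_comp_eq _).2 (h j).symm) l).trans ?_
    rw [hid]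
    exact Set.subset_biUnion_of_mem (u := fun l => Set.range (word g l).left) hl

theorem wordSet_iso {Y : J → Over S} (f : ∀ j, X j ⟶ G) (g : ∀ j, Y j ⟶ G) (e : ∀ j, Y j ≅ X j)
    (h : ∀ j, (e j).hom ≫ f j = g j) : wordSet g = wordSet f := by
  have hu : ∀ {Y : J → Over S} (g : ∀ j, Y j ⟶ G), wordSet g = ⋃ l, eset g {l} := fun g => by
    simp [wordSet, eset]
  rw [hu, hu]
  exact Set.iUnion_congr fun l => eset_iso f g e h {l}

/-- A point in a product of ranges. -/
theorem mem_range_tensor {A A' B B' : Over S} (s : A ⟶ A') (t : B ⟶ B') (q : (A' ⊗ B').left)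
    (h1 : (fst A' B').left q ∈ Set.range s.left) (h2 : (snd A' B').left q ∈ Set.range t.left) :
    q ∈ Set.range (s ⊗ₘ t).left := by
  have h := Scheme.Pullback.range_map A.hom B.hom A'.hom B'.hom s.left t.left (𝟙 S)
    (by rw [Category.comp_id, Over.w]) (by rw [Category.comp_id, Over.w])
  have hm : (s ⊗ₘ t).left = pullback.map A.hom B.hom A'.hom B'.hom s.left t.left (𝟙 S)
      (by rw [Category.comp_id, Over.w]) (by rw [Category.comp_id, Over.w]) := by
    apply pullback.hom_ext
    · show (s ⊗ₘ t).left ≫ (fst A' B').left = _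
      rw [← Over.comp_left, tensorHom_fst, Over.comp_left]
      exact (pullback.lift_fst _ _ _).symm
    · show (s ⊗ₘ t).left ≫ (snd A' B').left = _
      rw [← Over.comp_left, tensorHom_snd, Over.comp_left]
      exact (pullback.lift_snd _ _ _).symm
  rw [hm]
  refine (congrArg (fun T : Set _ => q ∈ T) h).mpr ?_
  exact ⟨h1, h2⟩

/-- Words refine along a jointly surjective family. -/
theorem exists_refine {I : J → Type w} [∀ j, Finite (I j)] {Y : (Σ j, I j) → Over S} (f : ∀ j, X j ⟶ G)
    (g : ∀ p, Y p ⟶ G) (u : ∀ p : Σ j, I j, Y p ⟶ X p.1) (h : ∀ p, u p ≫ f p.1 = g p)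
    (hu : ∀ j (x : (X j).left), ∃ i, x ∈ Set.range (u ⟨j, i⟩).left) :
    ∀ l : List (J × Bool), ∃ Ls : Finset (List ((Σ j, I j) × Bool)), ∀ x : (src X l).left, ∃ l' ∈ Ls,
      ∃ m : src Y l' ⟶ src X l, m ≫ word f l = word g l' ∧ x ∈ Set.range m.left := by
  classical
  intro l
  induction l with
  | nil => exact ⟨{[]}, fun x => ⟨[], Finset.mem_singleton_self _, 𝟙 _, Category.id_comp _, ⟨x, rfl⟩⟩⟩
  | cons a l ih =>
    obtain ⟨Ls, hLs⟩ := ih
    haveI := Fintype.ofFinite (I a.1)
    refine ⟨Finset.image₂ (fun i l' => ((⟨a.1, i⟩ : Σ j, I j), a.2) :: l') Finset.univ Ls, fun x => ?_⟩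
    obtain ⟨i, hi⟩ := hu a.1 ((fst (X a.1) (src X l)).left x)
    obtain ⟨l', hl', m, hm, hx⟩ := hLs ((snd (X a.1) (src X l)).left x)
    refine ⟨((⟨a.1, i⟩ : Σ j, I j), a.2) :: l', Finset.mem_image₂_of_mem (Finset.mem_univ i) hl',
      u ⟨a.1, i⟩ ⊗ₘ m, ?_, mem_range_tensor (u ⟨a.1, i⟩) m x hi hx⟩
    show (u ⟨a.1, i⟩ ⊗ₘ m) ≫ word f (a :: l) = word g ((⟨a.1, i⟩, a.2) :: l')
    rw [word_cons, word_cons, MonObj.comp_mul, tensorHom_fst_assoc, tensorHom_snd_assoc, hm]
    congr 2
    unfold letter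
    split
    · exact h ⟨a.1, i⟩
    · rw [GrpObj.comp_inv, h ⟨a.1, i⟩]

theorem exists_refine_eset {I : J → Type w} [∀ j, Finite (I j)] {Y : (Σ j, I j) → Over S} (f : ∀ j, X j ⟶ G)
    (g : ∀ p, Y p ⟶ G) (u : ∀ p : Σ j, I j, Y p ⟶ X p.1) (h : ∀ p, u p ≫ f p.1 = g p)
    (hu : ∀ j (x : (X j).left), ∃ i, x ∈ Set.range (u ⟨j, i⟩).left) (Ls : Finset (List (J × Bool))) :
    ∃ Ls' : Finset (List ((Σ j, I j) × Bool)), eset f Ls ⊆ eset g Ls' := by
  classical
  choose F hF using exists_refine f g u h hu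
  refine ⟨Ls.biUnion F, Set.iUnion₂_subset fun l hl => ?_⟩
  rintro _ ⟨x, rfl⟩
  obtain ⟨l', hl', m, hm, y, hy⟩ := hF l x
  refine Set.mem_biUnion (Finset.mem_biUnion.2 ⟨l, hl, hl'⟩) ⟨y, ?_⟩
  rw [← hm, Over.comp_left, Scheme.Hom.comp_apply, hy]

/-- Words commute with base change. -/
theorem exists_word_bc' {S' : Scheme.{u}} (σ : S' ⟶ S) (f : ∀ j, X j ⟶ G) :
    ∀ l : List (J × Bool), ∃ e : src (fun j => Red.bc σ (X j)) l ≅ Red.bc σ (src X l),
      e.hom ≫ (Over.pullback σ).map (word f l) = word (fun j => (Over.pullback σ).map (f j)) l := by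
  intro l
  induction l with
  | nil => exact ⟨Functor.Monoidal.εIso (Over.pullback σ), rfl⟩
  | cons a l ih =>
    obtain ⟨e, he⟩ := ih
    refine ⟨MonoidalCategory.tensorIso (Iso.refl _) e ≪≫ Functor.Monoidal.μIso (Over.pullback σ) (X a.1) (src X l), ?_⟩
    rw [word_cons, word_cons, Functor.map_mul, MonObj.comp_mul, Functor.map_comp, Functor.map_comp]
    simp only [Iso.trans_hom, MonoidalCategory.tensorIso_hom, Functor.Monoidal.μIso_hom, Category.assoc,
      Functor.Monoidal.μ_fst_assoc, Functor.Monoidal.μ_snd_assoc,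
      CartesianMonoidalCategory.tensorHom_fst_assoc, CartesianMonoidalCategory.tensorHom_snd_assoc, he,
      Iso.refl_hom, Category.id_comp]
    congr 2
    unfold letter
    split
    · rfl
    · rw [Functor.map_inv']

/-- The range of a base change. -/
theorem range_map_eq {S' : Scheme.{u}} (σ : S' ⟶ S) {A B : Over S} (φ : A ⟶ B) :
    Set.range ((Over.pullback σ).map φ).left = pullback.fst B.hom σ ⁻¹' Set.range φ.left := by
  refine Set.Subset.antisymm ?_ ?_
  · rintro _ ⟨p, rfl⟩
    exact ⟨pullback.fst A.hom σ p, (congrArg (fun ψ => ψ p) (isPullback_map σ φ).w).symm⟩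
  · rintro z ⟨p, hp⟩
    obtain ⟨v, hv, -⟩ := Scheme.exists_preimage_of_isPullback (isPullback_map σ φ) z p hp.symm
    exact ⟨v, hv⟩

theorem eset_bc {S' : Scheme.{u}} (σ : S' ⟶ S) (f : ∀ j, X j ⟶ G) (Ls : Finset (List (J × Bool))) :
    eset (fun j => (Over.pullback σ).map (f j)) Ls = pullback.fst G.hom σ ⁻¹' eset f Ls := by
  simp only [eset, Set.preimage_iUnion]
  refine Set.iUnion₂_congr fun l _ => ?_
  obtain ⟨e, he⟩ := exists_word_bc' σ f l
  rw [← range_map_eq, ← he]
  refine Set.Subset.antisymm (range_subset_of_comp rfl) ?_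
  exact range_subset_of_comp (m := e.inv) (Iso.inv_hom_id_assoc e _)

theorem props_tensor (A B : Over S) [LocallyOfFinitePresentation A.hom] [QuasiCompact A.hom]
    [LocallyOfFinitePresentation B.hom] [QuasiCompact B.hom] :
    LocallyOfFinitePresentation (A ⊗ B).hom ∧ QuasiCompact (A ⊗ B).hom :=
  ⟨inferInstanceAs (LocallyOfFinitePresentation (pullback.fst A.hom B.hom ≫ A.hom)),
    inferInstanceAs (QuasiCompact (pullback.fst A.hom B.hom ≫ A.hom))⟩

theorem props_src [∀ j, LocallyOfFinitePresentation (X j).hom] [∀ j, QuasiCompact (X j).hom] :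
    ∀ l : List (J × Bool), LocallyOfFinitePresentation (src X l).hom ∧ QuasiCompact (src X l).hom := by
  intro l
  induction l with
  | nil => exact ⟨inferInstanceAs (LocallyOfFinitePresentation (𝟙 S)), inferInstanceAs (QuasiCompact (𝟙 S))⟩
  | cons a l ih =>
    haveI := ih.1
    haveI := ih.2
    exact props_tensor (X a.1) (src X l)

theorem smooth_tensor (A B : Over S) [Smooth A.hom] [Smooth B.hom] : Smooth (A ⊗ B).hom :=
  inferInstanceAs (Smooth (pullback.fst A.hom B.hom ≫ A.hom))

theorem smooth_src' [∀ j, Smooth (X j).hom] : ∀ l : List (J × Bool), Smooth (src X l).hom := by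
  intro l
  induction l with
  | nil => exact inferInstanceAs (Smooth (𝟙 S))
  | cons a l ih =>
    haveI := ih
    exact smooth_tensor (X a.1) (src X l)

variable [LocallyOfFiniteType G.hom] [QuasiSeparated G.hom] [∀ j, LocallyOfFinitePresentation (X j).hom]
  [∀ j, QuasiCompact (X j).hom]

theorem props_word (f : ∀ j, X j ⟶ G) (l : List (J × Bool)) :
    LocallyOfFinitePresentation (word f l).left ∧ QuasiCompact (word f l).left := by
  obtain ⟨_, _⟩ := props_src (X := X) l
  haveI : LocallyOfFinitePresentation ((word f l).left ≫ G.hom) := by rw [Over.w]; infer_instance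
  haveI : QuasiCompact ((word f l).left ≫ G.hom) := by rw [Over.w]; infer_instance
  exact ⟨FlatLocus.locallyOfFinitePresentation_of_comp (word f l).left G.hom, QuasiCompact.of_comp (word f l).left G.hom⟩

end Groth.Agent.CommSpreadLib

end
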