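import Groth.Agent.CommSpreadLib.Open
import Groth.Agent.CommSpreadLib.Family
import Groth.Agent.GenSubLib.Main
import Groth.Agent.S1471

/-!
# Spreading a finitely generated subgroup of the generic fibre
-/

set_option autoImplicit false
set_option backward.isDefEq.respectTransparency false
set_option backward.isDefEq.respectTransparency.types false
set_option linter.style.haveILetI false
set_option linter.unusedSectionVars false

universe u v

open CategoryTheory CategoryTheory.Limits MonoidalCategory CartesianMonoidalCategory MonObj AlgebraicGeometry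
open Groth.Agent.GenSubLib
open Topology (IsLocallyConstructible)

noncomputable section

namespace Groth.Agent.CommSpreadLib

variable {S : Scheme.{u}}

/-- What is produced over each base change through the good open. -/
def Out (G : Over S) [GrpObj G] {J : Type v} (X : J → Over S) (f : ∀ j, X j ⟶ G) (Ls : Finset (List (J × Bool)))
    (nrm : Prop) {S' : Scheme.{u}} (τ : S' ⟶ S) : Prop :=
  ∃ (D : Over S') (_ : GrpObj D) (d : D ⟶ Red.bc τ G), IsMonHom d ∧ IsClosedImmersion d.left ∧
    Smooth D.hom ∧ QuasiCompact D.hom ∧ QuasiSeparated D.hom ∧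
    Set.range d.left = eset (fun j => (Over.pullback τ).map (f j)) Ls ∧
    (∀ j, ∃ q : Red.bc τ (X j) ⟶ D, q ≫ d = (Over.pullback τ).map (f j)) ∧
    (nrm → AlgGrp.IsNormalHom d)

variable [IsIntegral S]

/-- A closed immersion through which the generic fibre of a flat scheme factors is the identity. -/
theorem isIso_of_generic_factor {P C : Scheme.{u}} (p : P ⟶ S) [Flat p] (c : C ⟶ P) [IsClosedImmersion c]
    (l : pullback p (S.fromSpecResidueField (genericPoint S)) ⟶ C)
    (hl : l ≫ c = pullback.fst p (S.fromSpecResidueField (genericPoint S))) : IsIso c := by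
  haveI := IsSchemeTheoreticallyDominant.of_isDominant (S.fromSpecResidueField (genericPoint S))
  have hk : (l ≫ c).ker = ⊥ := by rw [hl]; exact Scheme.Hom.ker_eq_bot _
  rw [IsClosedImmersion.isIso_iff_ker_eq_bot]
  exact le_bot_iff.1 (hk ▸ Scheme.Hom.le_ker_comp l c)

variable {G Z : Over S} [GrpObj G] (z : Z ⟶ G) [IsClosedImmersion z.left]

/-- A morphism which factors through a closed subscheme over the generic point does so over the open. -/
theorem factor_of_generic {U : S.Opens} (P : Over S) (t : P ⟶ G) (hP : Flat (Red.bc U.ι P).hom)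
    (h : ∃ r : Red.bc (S.fromSpecResidueField (genericPoint S)) P ⟶ Red.bc (S.fromSpecResidueField (genericPoint S)) Z,
      r ≫ (Over.pullback (S.fromSpecResidueField (genericPoint S))).map z =
        (Over.pullback (S.fromSpecResidueField (genericPoint S))).map t)
    {S' : Scheme.{u}} (τ : S' ⟶ S) (hτ : Thru U τ) :
    ∃ m : Red.bc τ P ⟶ Red.bc τ Z, m ≫ (Over.pullback τ).map z = (Over.pullback τ).map t := by
  let σ := S.fromSpecResidueField (genericPoint S)
  let Uo : Over S := Over.mk U.ι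
  let P' := P ⊗ Uo
  haveI : Flat P'.hom := by
    rw [← Over.w (snd P Uo)]
    haveI : Flat (snd P Uo).left := hP
    haveI : Flat Uo.hom := inferInstanceAs (Flat U.ι)
    infer_instance
  let t' := fst P Uo ≫ t
  obtain ⟨r, hr⟩ := h
  let r' := (Over.pullback σ).map (fst P Uo) ≫ r
  have hr' : r' ≫ (Over.pullback σ).map z = (Over.pullback σ).map t' := by
    rw [Category.assoc, hr, ← Functor.map_comp]
  let c := pullback.fst t'.left z.left
  haveI : IsClosedImmersion c := MorphismProperty.pullback_fst _ _ ‹_›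
  have hw : pullback.fst P'.hom σ ≫ t'.left = (r'.left ≫ pullback.fst Z.hom σ) ≫ z.left := by
    rw [Category.assoc, ← (isPullback_map σ z).w, ← Category.assoc, ← Over.comp_left, hr']
    exact (isPullback_map σ t').w.symm
  haveI : IsIso c := isIso_of_generic_factor P'.hom c (pullback.lift _ _ hw) (pullback.lift_fst _ _ _)
  have e : (inv c ≫ pullback.snd t'.left z.left) ≫ z.left = t'.left := by
    rw [Category.assoc, ← pullback.condition, IsIso.inv_hom_id_assoc]
  let l₀ : P' ⟶ Z := Over.homMk (inv c ≫ pullback.snd t'.left z.left)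
    (by rw [← Over.w z, ← Category.assoc, e, Over.w t'])
  have hl₀ : l₀ ≫ z = t' := Over.OverMorphism.ext e
  obtain ⟨g, hg⟩ := hτ
  let u : 𝟙_ (Over S') ⟶ Red.bc τ Uo := Over.homMk (U := 𝟙_ (Over S')) (V := Red.bc τ Uo)
    (pullback.lift (f := U.ι) (g := τ) g (𝟙 S') (by rw [hg]; exact (Category.id_comp τ).symm)) (pullback.lift_snd _ _ _)
  refine ⟨lift (𝟙 _) (toUnit _ ≫ u) ≫ Functor.LaxMonoidal.μ (Over.pullback τ) P Uo ≫ (Over.pullback τ).map l₀, ?_⟩
  rw [Category.assoc, Category.assoc, ← Functor.map_comp, hl₀, Functor.map_comp, Functor.Monoidal.μ_fst_assoc,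
    lift_fst_assoc, Category.id_comp]

/-- The closed subscheme is a subgroup over each base change through the open. -/
theorem exists_subgroup {U : S.Opens} {Γ : Over (Spec (S.residueField (genericPoint S)))} [GrpObj Γ]
    (i : Γ ⟶ Red.bc (S.fromSpecResidueField (genericPoint S)) G) [IsMonHom i]
    (e : Red.bc (S.fromSpecResidueField (genericPoint S)) Z ≅ Γ)
    (he : e.hom ≫ i = (Over.pullback (S.fromSpecResidueField (genericPoint S))).map z)
    (hG : Flat (Red.bc U.ι G).hom) (hZ : Flat (Red.bc U.ι Z).hom) {S' : Scheme.{u}} (τ : S' ⟶ S) (hτ : Thru U τ) :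
    ∃ _ : GrpObj (Red.bc τ Z), IsMonHom ((Over.pullback τ).map z) ∧
      (AlgGrp.IsNormalHom i → AlgGrp.IsNormalHom (G := Red.bc τ G) ((Over.pullback τ).map z)) ∧
      ∀ (P : Over S) (t : P ⟶ G), Flat (Red.bc U.ι P).hom →
        (∃ r : Red.bc (S.fromSpecResidueField (genericPoint S)) P ⟶ Γ,
          r ≫ i = (Over.pullback (S.fromSpecResidueField (genericPoint S))).map t) →
        ∃ m : Red.bc τ P ⟶ Red.bc τ Z, m ≫ (Over.pullback τ).map z = (Over.pullback τ).map t := by
  let σ := S.fromSpecResidueField (genericPoint S)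
  have fac : ∀ (P : Over S) (t : P ⟶ G), Flat (Red.bc U.ι P).hom →
      (∃ r : Red.bc σ P ⟶ Γ, r ≫ i = (Over.pullback σ).map t) →
      ∃ m : Red.bc τ P ⟶ Red.bc τ Z, m ≫ (Over.pullback τ).map z = (Over.pullback τ).map t := fun P t hP ⟨r, hr⟩ =>
    factor_of_generic z P t hP ⟨r ≫ e.inv, by rw [Category.assoc, ← he, Iso.inv_hom_id_assoc, hr]⟩ τ hτ
  haveI : IsClosedImmersion ((Over.pullback τ).map z).left :=
    MorphismProperty.of_isPullback (isPullback_map τ z).flip ‹IsClosedImmersion z.left›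
  haveI : Mono ((Over.pullback τ).map z) := Over.mono_of_mono_left _
  have h1 : Flat (Red.bc U.ι (𝟙_ (Over S))).hom := MorphismProperty.pullback_snd _ _ (inferInstanceAs (Flat (𝟙 S)))
  obtain ⟨mm, hmm⟩ := fac (Z ⊗ Z) ((fst Z Z ≫ z) * (snd Z Z ≫ z)) (prop_bc_tensor @Flat _ Z Z hZ hZ)
    ⟨((Over.pullback σ).map (fst Z Z) ≫ e.hom) * ((Over.pullback σ).map (snd Z Z) ≫ e.hom), by
      rw [MonObj.mul_comp, Category.assoc, Category.assoc, he, ← Functor.map_comp, ← Functor.map_comp,
        ← Functor.map_mul]⟩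
  obtain ⟨mi, hmi⟩ := fac Z z⁻¹ hZ ⟨e.hom⁻¹, by rw [GrpObj.inv_comp, he, ← Functor.map_inv']⟩
  obtain ⟨mo, hmo⟩ := fac (𝟙_ (Over S)) 1 h1 ⟨1, by rw [MonObj.one_comp, Functor.map_one]⟩
  obtain ⟨hg, hh⟩ := exists_grpObj_of_closed (G := Red.bc τ G) ((Over.pullback τ).map z)
    (fun {T} x y => ⟨lift x y ≫ Functor.LaxMonoidal.μ (Over.pullback τ) Z Z ≫ mm, by
      simp [Category.assoc, hmm, Functor.map_mul, MonObj.comp_mul, Functor.Monoidal.μ_fst_assoc,
        Functor.Monoidal.μ_snd_assoc]⟩)
    (fun {T} x => ⟨x ≫ mi, by rw [Category.assoc, hmi, Functor.map_inv', GrpObj.comp_inv]⟩)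
    ⟨Functor.LaxMonoidal.ε (Over.pullback τ) ≫ mo, by rw [Category.assoc, hmo, Functor.map_one, MonObj.comp_one]⟩
  refine ⟨hg, hh, fun hn => ?_, fac⟩
  let t : G ⊗ Z ⟶ G := fst G Z * (snd G Z ≫ z) * (fst G Z)⁻¹
  obtain ⟨n', hn'⟩ := hn _ ((Over.pullback σ).map (fst G Z)) ((Over.pullback σ).map (snd G Z) ≫ e.hom)
  obtain ⟨mn, hmn⟩ := fac (G ⊗ Z) t (prop_bc_tensor @Flat _ G Z hG hZ) ⟨n', by
    rw [← hn', Category.assoc, he, ← Functor.map_comp]
    simp [t, Functor.map_mul, Functor.map_inv']⟩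
  intro T g n
  refine ⟨lift g n ≫ Functor.LaxMonoidal.μ (Over.pullback τ) G Z ≫ mn, ?_⟩
  simp [t, Category.assoc, hmn, Functor.map_mul, Functor.map_inv', MonObj.comp_mul, GrpObj.comp_inv,
    Functor.Monoidal.μ_fst, Functor.Monoidal.μ_snd_assoc]

end Groth.Agent.CommSpreadLib

end
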