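import Groth.Agent.CommSpreadLib.Main

/-!
# The derived series of the fibres spreads out
-/

set_option autoImplicit false
set_option backward.isDefEq.respectTransparency false
set_option backward.isDefEq.respectTransparency.types false
set_option linter.style.haveILetI false
set_option linter.unusedSectionVars false

universe u v

open CategoryTheory CategoryTheory.Limits MonoidalCategory CartesianMonoidalCategory MonObj AlgebraicGeometry
open Groth.Agent.GenSubLib

noncomputable section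

namespace Groth.Agent.CommSpreadLib

section FieldStep

variable {k : Type u} [Field k]

/-- A closed subgroup of a group scheme over a field. -/
structure Sub (H : Over (Spec (CommRingCat.of k))) [GrpObj H] where
  /-- The scheme. -/
  obj : Over (Spec (CommRingCat.of k))
  /-- Its group structure. -/
  grp : GrpObj obj
  /-- The inclusion. -/
  emb : obj ⟶ H
  hom : IsMonHom emb
  closed : IsClosedImmersion emb.left

variable {H : Over (Spec (CommRingCat.of k))} [GrpObj H]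

/-- `B` is the smallest closed subgroup containing the commutators of `A`. -/
def Step (A B : Sub H) : Prop :=
  (∃ c : A.obj ⊗ A.obj ⟶ B.obj, c ≫ B.emb = commMap A.emb A.emb) ∧
    ∀ (Γ' : Over (Spec (CommRingCat.of k))) (_ : GrpObj Γ') (i' : Γ' ⟶ H), IsMonHom i' → IsClosedImmersion i'.left →
      (∃ c : A.obj ⊗ A.obj ⟶ Γ', c ≫ i' = commMap A.emb A.emb) → ∃ j : B.obj ⟶ Γ', j ≫ i' = B.emb

/-- A derived series ending at `d`. -/
def Chain (n : ℕ) {D : Over (Spec (CommRingCat.of k))} (d : D ⟶ H) : Prop :=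
  ∃ c : Fin (n + 1) → Sub H, IsIso (c 0).emb ∧ (∀ p : Fin n, Step (c p.castSucc) (c p.succ)) ∧
    ∃ e : D ≅ (c (Fin.last n)).obj, e.hom ≫ (c (Fin.last n)).emb = d

theorem commMap_comp {A A' B B' : Over (Spec (CommRingCat.of k))} (s : A' ⟶ A) (t : B' ⟶ B) (a : A ⟶ H) (b : B ⟶ H) :
    (s ⊗ₘ t) ≫ commMap a b = commMap (s ≫ a) (t ≫ b) := by
  simp [commMap, MonObj.comp_mul, GrpObj.comp_inv]

theorem chain_zero : Chain 0 (𝟙 H) := by
  refine ⟨fun _ => ⟨H, ‹GrpObj H›, 𝟙 H, inferInstance, inferInstanceAs (IsClosedImmersion (𝟙 H.left))⟩,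
    (inferInstance : IsIso (𝟙 H)), fun p => p.elim0, Iso.refl _, Category.comp_id _⟩

theorem chain_succ {n : ℕ} {D D' : Over (Spec (CommRingCat.of k))} (d : D ⟶ H) (h : Chain n d) [GrpObj D']
    (d' : D' ⟶ H) [IsMonHom d'] [IsClosedImmersion d'.left]
    (hfac : ∃ c : D ⊗ D ⟶ D', c ≫ d' = commMap d d)
    (hmin : ∀ (Γ' : Over (Spec (CommRingCat.of k))) (_ : GrpObj Γ') (i' : Γ' ⟶ H), IsMonHom i' → IsClosedImmersion i'.left →
      (∃ c : D ⊗ D ⟶ Γ', c ≫ i' = commMap d d) → ∃ j : D' ⟶ Γ', j ≫ i' = d') :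
    Chain (n + 1) d' := by
  obtain ⟨c, h0, hstep, e, he⟩ := h
  let N : Sub H := ⟨D', ‹_›, d', ‹_›, ‹_›⟩
  refine ⟨Fin.snoc c N, ?_, ?_, ?_⟩
  · rw [← Fin.castSucc_zero, Fin.snoc_castSucc]
    exact h0
  · intro p
    induction p using Fin.lastCases with
    | last =>
      rw [Fin.snoc_castSucc, Fin.succ_last, Fin.snoc_last]
      have hd : e.inv ≫ d = (c (Fin.last n)).emb := by rw [← he, Iso.inv_hom_id_assoc]
      refine ⟨?_, fun Γ' hG i' h1 h2 h3 => hmin Γ' hG i' h1 h2 ?_⟩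
      · obtain ⟨q, hq⟩ := hfac
        refine ⟨(e.inv ⊗ₘ e.inv) ≫ q, ?_⟩
        rw [Category.assoc, hq, commMap_comp, hd]
      · obtain ⟨q, hq⟩ := h3
        refine ⟨(e.hom ⊗ₘ e.hom) ≫ q, ?_⟩
        rw [Category.assoc, hq, commMap_comp, he]
    | cast q =>
      rw [Fin.succ_castSucc, Fin.snoc_castSucc, Fin.snoc_castSucc]
      exact hstep q
  · rw [Fin.snoc_last]
    exact ⟨Iso.refl _, Category.id_comp _⟩

variable {I : Type v} [Finite I] {Y : I → Over (Spec (CommRingCat.of k))} (w : ∀ l, Y l ⟶ H)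
  [∀ l, GeometricallyReduced (Y l).hom]
  {Z : I × I → Over (Spec (CommRingCat.of k))} (v : ∀ p, Z p ⟶ H) (e : ∀ p : I × I, Y p.1 ⊗ Y p.2 ≅ Z p)
  (he : ∀ p : I × I, (e p).hom ≫ v p = commMap (w p.1) (w p.2))
  {D : Over (Spec (CommRingCat.of k))} (d : D ⟶ H) [IsClosedImmersion d.left]
  (hd : Set.range d.left = ⋃ l, Set.range (w l).left)

include he hd in
/-- The commutators of a union of images are covered by commutators of the pieces. -/
theorem exists_step_cover :
    ∃ u : ∀ p, Z p ⟶ D ⊗ D, (∀ p, u p ≫ commMap d d = v p) ∧ ∀ x : (D ⊗ D).left, ∃ p, x ∈ Set.range (u p).left := by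
  have hq : ∀ l, ∃ q : Y l ⟶ D, q ≫ d = w l := fun l => by
    haveI := GenSubLib.isReduced_self (Y l)
    exact GenSubLib.exists_lift_of_range d (w l) ((Set.subset_iUnion (fun l => Set.range (w l).left) l).trans hd.ge)
  choose q hq using hq
  refine ⟨fun p => (e p).inv ≫ (q p.1 ⊗ₘ q p.2), fun p => ?_, fun x => ?_⟩
  · rw [Category.assoc, commMap_comp, hq, hq, ← he, Iso.inv_hom_id_assoc]
  · have key : ∀ y : D.left, ∃ l, y ∈ Set.range (q l).left := fun y => by
      obtain ⟨l, p, hp⟩ := Set.mem_iUnion.1 (hd.le ⟨y, rfl⟩)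
      refine ⟨l, p, d.left.isClosedEmbedding.injective ?_⟩
      rw [← hp, ← hq l]
      rfl
    obtain ⟨l, hl⟩ := key ((fst D D).left x)
    obtain ⟨l', hl'⟩ := key ((snd D D).left x)
    obtain ⟨y, hy⟩ := mem_range_tensor (q l) (q l') x hl hl'
    refine ⟨(l, l'), (e (l, l')).hom.left y, ?_⟩
    rw [← hy, ← Scheme.Hom.comp_apply, ← Over.comp_left, Iso.hom_inv_id_assoc]

include he hd in
theorem comm_factor_iff [GeometricallyReduced D.hom] (Γ' : Over (Spec (CommRingCat.of k))) [GrpObj Γ'] (i' : Γ' ⟶ H)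
    [IsMonHom i'] [IsClosedImmersion i'.left] :
    (∃ c : D ⊗ D ⟶ Γ', c ≫ i' = commMap d d) ↔ ∀ p, ∃ q : Z p ⟶ Γ', q ≫ i' = v p := by
  obtain ⟨u, hu, hsurj⟩ := exists_step_cover w v e he d hd
  refine ⟨fun ⟨c, hc⟩ p => ⟨u p ≫ c, by rw [Category.assoc, hc, hu]⟩, fun h => ?_⟩
  haveI := geometricallyReduced_tensor D D
  haveI := GenSubLib.isReduced_self (D ⊗ D)
  refine GenSubLib.exists_lift_of_range i' (commMap d d) ?_
  rintro _ ⟨x, rfl⟩
  obtain ⟨p, y, rfl⟩ := hsurj x
  obtain ⟨q, hq⟩ := h p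
  refine ⟨q.left y, ?_⟩
  rw [← Scheme.Hom.comp_apply, ← Over.comp_left, hq, ← hu p]
  rfl

include he hd in
theorem exists_step_refine (Ls : Finset (List (PUnit.{1} × Bool))) :
    ∃ Ls' : Finset (List ((I × I) × Bool)), eset (one₁ (commMap d d)) Ls ⊆ eset v Ls' := by
  classical
  obtain ⟨u, hu, hsurj⟩ := exists_step_cover w v e he d hd
  obtain ⟨L, hL⟩ := exists_refine_eset (I := fun _ : PUnit.{1} => I × I) (Y := fun p => Z p.2)
    (one₁ (commMap d d)) (fun p => v p.2) (fun p => u p.2) (fun p => hu p.2) (fun _ x => hsurj x) Ls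
  refine ⟨L.image fun l => l.map fun a => (a.1.2, a.2), hL.trans (Set.iUnion₂_subset fun l hl => ?_)⟩
  refine (range_word_subset v (fun p : Σ _ : PUnit.{1}, I × I => v p.2) (fun p => p.2) (fun _ => 𝟙 _)
    (fun _ => Category.id_comp _) l).trans ?_
  exact Set.subset_biUnion_of_mem (u := fun l => Set.range (word v l).left) (Finset.mem_image_of_mem _ hl)

end FieldStep

section Global

variable {S : Scheme.{u}} [IsIntegral S] (G : Over S) [GrpObj G]

theorem smooth_bc_src {J : Type v} {X : J → Over S} {S' : Scheme.{u}} (τ : S' ⟶ S) (f : ∀ j, X j ⟶ G)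
    (h : ∀ j, Smooth (Red.bc τ (X j)).hom) (l : List (J × Bool)) : Smooth (Red.bc τ (src X l)).hom := by
  obtain ⟨e, -⟩ := exists_word_bc' τ f l
  haveI := smooth_src' (X := fun j => Red.bc τ (X j)) l
  haveI : IsIso e.inv.left := ((Over.forget _).mapIso e).isIso_inv
  rw [← Over.w e.inv]
  infer_instance

theorem comm_bc₂ {A B : Over S} {S' : Scheme.{u}} (τ : S' ⟶ S) {k : Type u} [Field k] (σ : Spec (CommRingCat.of k) ⟶ S')
    (a : A ⟶ G) (b : B ⟶ G) :
    (Functor.Monoidal.μIso (Over.pullback σ) _ _ ≪≫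
      (Over.pullback σ).mapIso (Functor.Monoidal.μIso (Over.pullback τ) A B)).hom ≫
      (Over.pullback σ).map ((Over.pullback τ).map ((fst A B ≫ a) * (snd A B ≫ b) * (fst A B ≫ a)⁻¹ * (snd A B ≫ b)⁻¹)) =
    commMap ((Over.pullback σ).map ((Over.pullback τ).map a)) ((Over.pullback σ).map ((Over.pullback τ).map b)) := by
  simp only [Iso.trans_hom, Functor.mapIso_hom, Functor.Monoidal.μIso_hom, Category.assoc]
  rw [← Functor.map_comp]
  have h : Functor.LaxMonoidal.μ (Over.pullback τ) A B ≫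
      (Over.pullback τ).map ((fst A B ≫ a) * (snd A B ≫ b) * (fst A B ≫ a)⁻¹ * (snd A B ≫ b)⁻¹) =
      (fst _ _ ≫ (Over.pullback τ).map a) * (snd _ _ ≫ (Over.pullback τ).map b) *
        (fst _ _ ≫ (Over.pullback τ).map a)⁻¹ * (snd _ _ ≫ (Over.pullback τ).map b)⁻¹ := by
    simp [Functor.map_mul, Functor.map_inv', MonObj.comp_mul, GrpObj.comp_inv,
      Functor.Monoidal.μ_fst_assoc, Functor.Monoidal.μ_snd_assoc]
  rw [h]
  exact commMap_bc σ _ _

theorem range_eq_iUnion_map {J : Type v} {X : J → Over S} {S' : Scheme.{u}} (τ : S' ⟶ S) (f : ∀ j, X j ⟶ G)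
    (Ls : Finset (List (J × Bool))) :
    eset (fun j => (Over.pullback τ).map (f j)) Ls =
      ⋃ l : {l // l ∈ Ls}, Set.range ((Over.pullback τ).map (word f l.1)).left := by
  rw [eset_bc τ f Ls]
  simp only [range_map_eq, eset, Set.preimage_iUnion, Set.iUnion_subtype]

variable [LocallyOfFinitePresentation G.hom] [QuasiCompact G.hom] [QuasiSeparated G.hom]

/-- What is known at each level. -/
def Level (n : ℕ) : Prop :=
  ∃ (J : Type) (_ : Finite J) (X : J → Over S) (_ : ∀ j, LocallyOfFinitePresentation (X j).hom)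
    (_ : ∀ j, QuasiCompact (X j).hom) (f : ∀ j, X j ⟶ G) (Ls : Finset (List (J × Bool))) (U : S.Opens),
    genericPoint S ∈ U ∧ ∀ {S' : Scheme.{u}} (τ : S' ⟶ S), Thru U τ → (∀ j, Smooth (Red.bc τ (X j)).hom) ∧
      ∃ (D : Over S') (_ : GrpObj D) (d : D ⟶ Red.bc τ G), IsMonHom d ∧ IsClosedImmersion d.left ∧ Smooth D.hom ∧
        QuasiCompact D.hom ∧ QuasiSeparated D.hom ∧ AlgGrp.IsNormalHom d ∧
        Set.range d.left = eset (fun j => (Over.pullback τ).map (f j)) Ls ∧
        ∀ {k : Type u} [Field k] (σ : Spec (CommRingCat.of k) ⟶ S'),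
          Chain n (H := Red.bc σ (Red.bc τ G)) ((Over.pullback σ).map d)

theorem level_zero (hsm : Smooth (Red.bc (S.fromSpecResidueField (genericPoint S)) G).hom) : Level G 0 := by
  classical
  obtain ⟨U, hη, hU⟩ := exists_smooth_open G hsm
  refine ⟨PUnit.{1}, inferInstance, fun _ => G, fun _ => inferInstance, fun _ => inferInstance, fun _ => 𝟙 G,
    {[(PUnit.unit, true)]}, U, hη, fun {S'} τ hτ => ⟨fun _ => hτ.prop @Smooth G hU, Red.bc τ G, inferInstance, 𝟙 _,
      inferInstance, inferInstanceAs (IsClosedImmersion (𝟙 _)), hτ.prop @Smooth G hU,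
      MorphismProperty.pullback_snd _ _ (inferInstance : QuasiCompact G.hom),
      MorphismProperty.pullback_snd _ _ (inferInstance : QuasiSeparated G.hom),
      fun T g n => ⟨g * (n ≫ 𝟙 _) * g⁻¹, (Category.comp_id _).symm⟩, ?_, fun {k} _ σ => ?_⟩⟩
  · refine Set.Subset.antisymm (fun x _ => ?_) (fun x _ => ⟨x, rfl⟩)
    obtain ⟨r, hr⟩ := exists_single (fun _ : PUnit.{1} => (Over.pullback τ).map (𝟙 G)) (PUnit.unit, true) (𝟙 _)
    refine Set.mem_biUnion (Finset.mem_singleton_self _) ⟨r.left x, ?_⟩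
    rw [← Scheme.Hom.comp_apply, ← Over.comp_left, hr]
    simp [letter]
  · rw [CategoryTheory.Functor.map_id]
    exact chain_zero

set_option maxHeartbeats 1600000 in
theorem level_succ (n : ℕ) (h : Level G n) : Level G (n + 1) := by
  classical
  obtain ⟨J, hJ, X, hXl, hXc, f, Ls, U, hη, hU⟩ := h
  let σ₀ := S.fromSpecResidueField (genericPoint S)
  obtain ⟨hX₀, D₀, hD₀, d₀, hd₀, hd₀c, hD₀s, hD₀q, -, hn₀, hr₀, -⟩ := hU σ₀ (thru_generic hη)
  letI := hD₀
  haveI := hd₀
  haveI := hd₀c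
  haveI := hD₀s
  haveI := hD₀q
  haveI : LocallyOfFiniteType (Red.bc σ₀ G).hom := MorphismProperty.pullback_snd _ _ (inferInstance : LocallyOfFiniteType G.hom)
  obtain ⟨Γ, hΓ, i, hi, hic, hgr, ⟨q, hq⟩, hn, Lc, hrΓ⟩ := exists_comm_generated d₀ d₀ (Or.inr ⟨hn₀, hn₀⟩)
  letI := hΓ
  haveI := hi
  haveI := hic
  haveI := hgr
  haveI : LocallyOfFiniteType Γ.hom := by rw [← Over.w i]; infer_instance
  haveI : GrpObj (Over.mk Γ.hom) := ‹GrpObj Γ›
  haveI : Smooth Γ.hom := smooth_of_grpObj Γ.hom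
  -- the new family
  let I := {l // l ∈ Ls}
  let X' : I × I → Over S := fun p => src X p.1.1 ⊗ src X p.2.1
  let f' : ∀ p, X' p ⟶ G := fun p =>
    (fst (src X p.1.1) (src X p.2.1) ≫ word f p.1.1) * (snd (src X p.1.1) (src X p.2.1) ≫ word f p.2.1) *
      (fst (src X p.1.1) (src X p.2.1) ≫ word f p.1.1)⁻¹ * (snd (src X p.1.1) (src X p.2.1) ≫ word f p.2.1)⁻¹
  have hl : ∀ p, LocallyOfFinitePresentation (X' p).hom := fun p => by
    obtain ⟨_, _⟩ := props_src (X := X) p.1.1
    obtain ⟨_, _⟩ := props_src (X := X) p.2.1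
    exact (props_tensor _ _).1
  have hc : ∀ p, QuasiCompact (X' p).hom := fun p => by
    obtain ⟨_, _⟩ := props_src (X := X) p.1.1
    obtain ⟨_, _⟩ := props_src (X := X) p.2.1
    exact (props_tensor _ _).2
  haveI hY₀ : ∀ l : I, GeometricallyReduced ((Over.pullback σ₀).obj (src X l.1)).hom := fun l => by
    haveI := smooth_bc_src G σ₀ f hX₀ l.1
    exact AVLib.geometricallyReduced_of_smooth _
  haveI := AVLib.geometricallyReduced_of_smooth D₀.hom
  have hd₀w : Set.range d₀.left = ⋃ l : I, Set.range ((Over.pullback σ₀).map (word f l.1)).left :=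
    hr₀.trans (range_eq_iUnion_map G σ₀ f Ls)
  let v₀ : ∀ p, Red.bc σ₀ (X' p) ⟶ Red.bc σ₀ G := fun p => (Over.pullback σ₀).map (f' p)
  let e₀ : ∀ p : I × I, Red.bc σ₀ (src X p.1.1) ⊗ Red.bc σ₀ (src X p.2.1) ≅ Red.bc σ₀ (X' p) := fun p =>
    Functor.Monoidal.μIso (Over.pullback σ₀) _ _
  have he₀ : ∀ p : I × I, (e₀ p).hom ≫ v₀ p =
      commMap ((Over.pullback σ₀).map (word f p.1.1)) ((Over.pullback σ₀).map (word f p.2.1)) := fun p =>
    commMap_bc σ₀ (word f p.1.1) (word f p.2.1)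
  have hv₀ := (comm_factor_iff (fun l : I => (Over.pullback σ₀).map (word f l.1)) v₀ e₀ he₀ d₀ hd₀w Γ i).1 ⟨q, hq⟩
  obtain ⟨Ls', hLs'⟩ := exists_step_refine (fun l : I => (Over.pullback σ₀).map (word f l.1)) v₀ e₀ he₀ d₀ hd₀w Lc
  have hrΓ' : Set.range i.left = eset v₀ Ls' := Set.Subset.antisymm (hrΓ.le.trans hLs')
    ((eset_subset_wordSet v₀ Ls').trans (wordSet_subset_range i v₀ hv₀))
  obtain ⟨U', hU'U, hη', H⟩ := @exists_spread S _ G _ _ _ _ (I × I) _ X' hl hc f'
    (fun p => prop_bc_tensor @Smooth σ₀ _ _ (smooth_bc_src G σ₀ f hX₀ p.1.1) (smooth_bc_src G σ₀ f hX₀ p.2.1))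
    Ls' Γ _ i _ _ _ hrΓ' hv₀ U hη
  refine ⟨I × I, inferInstance, X', hl, hc, f', Ls', U', hη', fun {S'} τ hτ => ?_⟩
  obtain ⟨⟨D', hD', d', hd', hd'c, hD's, hD'q, hD'qs, hr', hf', hn'⟩, hsm'⟩ := H τ hτ
  obtain ⟨hXτ, D, hD, d, hd, hdc, hDs, -, -, -, hr, hch⟩ := hU τ (hτ.mono hU'U)
  letI := hD'
  haveI := hd'
  haveI := hd'c
  refine ⟨hsm', D', hD', d', hd', hd'c, hD's, hD'q, hD'qs, hn' (hn hn₀ hn₀), hr', fun {k} _ σ => ?_⟩
  letI := hD
  haveI := hd
  haveI := hdc
  haveI : IsClosedImmersion ((Over.pullback σ).map d).left :=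
    MorphismProperty.of_isPullback (isPullback_map σ d).flip hdc
  haveI : IsClosedImmersion ((Over.pullback σ).map d').left :=
    MorphismProperty.of_isPullback (isPullback_map σ d').flip hd'c
  haveI : Smooth ((Over.pullback σ).obj D).hom := MorphismProperty.pullback_snd _ _ hDs
  haveI := AVLib.geometricallyReduced_of_smooth ((Over.pullback σ).obj D).hom
  haveI : Smooth ((Over.pullback σ).obj D').hom := MorphismProperty.pullback_snd _ _ hD's
  haveI hY : ∀ l : I, GeometricallyReduced ((Over.pullback σ).obj ((Over.pullback τ).obj (src X l.1))).hom := fun l => by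
    haveI := smooth_bc_src G τ f hXτ l.1
    haveI : Smooth ((Over.pullback σ).obj ((Over.pullback τ).obj (src X l.1))).hom :=
      MorphismProperty.pullback_snd _ _ (inferInstance : Smooth ((Over.pullback τ).obj (src X l.1)).hom)
    exact AVLib.geometricallyReduced_of_smooth _
  let w : ∀ l : I, (Over.pullback σ).obj ((Over.pullback τ).obj (src X l.1)) ⟶ Red.bc σ (Red.bc τ G) := fun l =>
    (Over.pullback σ).map ((Over.pullback τ).map (word f l.1))
  let v : ∀ p, (Over.pullback σ).obj ((Over.pullback τ).obj (X' p)) ⟶ Red.bc σ (Red.bc τ G) := fun p =>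
    (Over.pullback σ).map ((Over.pullback τ).map (f' p))
  let e : ∀ p : I × I, (Over.pullback σ).obj ((Over.pullback τ).obj (src X p.1.1)) ⊗
      (Over.pullback σ).obj ((Over.pullback τ).obj (src X p.2.1)) ≅ (Over.pullback σ).obj ((Over.pullback τ).obj (X' p)) :=
    fun p => Functor.Monoidal.μIso (Over.pullback σ) _ _ ≪≫
      (Over.pullback σ).mapIso (Functor.Monoidal.μIso (Over.pullback τ) _ _)
  have he : ∀ p : I × I, (e p).hom ≫ v p = commMap (w p.1) (w p.2) := fun p =>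
    comm_bc₂ G τ σ (word f p.1.1) (word f p.2.1)
  have hdw : Set.range ((Over.pullback σ).map d).left = ⋃ l : I, Set.range (w l).left := by
    rw [range_map_eq, hr, range_eq_iUnion_map G τ f Ls, Set.preimage_iUnion]
    exact Set.iUnion_congr fun l => (range_map_eq σ _).symm
  have hr'' : Set.range ((Over.pullback σ).map d').left = eset v Ls' := by
    rw [range_map_eq, hr']
    exact (eset_bc σ _ Ls').symm
  refine chain_succ ((Over.pullback σ).map d) (hch σ) ((Over.pullback σ).map d') ?_ fun Γ' _ i' _ _ hfac => ?_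
  · refine (comm_factor_iff w v e he ((Over.pullback σ).map d) hdw _ ((Over.pullback σ).map d')).2 fun p => ?_
    obtain ⟨q', hq'⟩ := hf' p
    exact ⟨(Over.pullback σ).map q', by rw [← Functor.map_comp, hq']⟩
  · exact min_of_range v ((Over.pullback σ).map d') (hr''.le.trans (eset_subset_wordSet v Ls')) Γ' i'
      ((comm_factor_iff w v e he ((Over.pullback σ).map d) hdw Γ' i').1 hfac)

theorem level (hsm : Smooth (Red.bc (S.fromSpecResidueField (genericPoint S)) G).hom) : ∀ n, Level G n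
  | 0 => level_zero G hsm
  | n + 1 => level_succ G n (level hsm n)

end Global

end Groth.Agent.CommSpreadLib

end
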