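import Groth.Agent.GenSubLib.CommutatorPts
import Groth.Agent.CommSpreadLib.Family
import Groth.Agent.S0351

/-!
# The commutator subgroup is covered by finitely many words
-/

set_option autoImplicit false
set_option backward.isDefEq.respectTransparency false
set_option backward.isDefEq.respectTransparency.types false
set_option linter.style.haveILetI false
set_option linter.unusedSectionVars false

universe u v

open CategoryTheory CategoryTheory.Limits MonoidalCategory CartesianMonoidalCategory MonObj AlgebraicGeometry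
open scoped commutatorElement
open Groth.Agent.GenSubLib

noncomputable section

namespace Groth.Agent.CommSpreadLib

section AlgClosed

variable {k : Type u} [Field k] [IsAlgClosed k] {G : Over (Spec (CommRingCat.of k))} [GrpObj G]
  [LocallyOfFiniteType G.hom]

theorem lft_tensor (P Q : Over (Spec (CommRingCat.of k))) [LocallyOfFiniteType P.hom] [LocallyOfFiniteType Q.hom] :
    LocallyOfFiniteType (P ⊗ Q).hom :=
  inferInstanceAs (LocallyOfFiniteType (pullback.fst P.hom Q.hom ≫ P.hom))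

theorem exists_finite_cover {J : Type v} {Y : J → Over (Spec (CommRingCat.of k))} (g : ∀ j, Y j ⟶ G)
    [∀ j, IrreducibleSpace (Y j).left] [∀ j, GeometricallyReduced (Y j).hom] [∀ j, LocallyOfFiniteType (Y j).hom]
    [∀ j, QuasiCompact (Y j).hom] (y : ∀ j, 𝟙_ (Over (Spec (CommRingCat.of k))) ⟶ Y j) (hy : ∀ j, y j ≫ g j = 1)
    {X : Over (Spec (CommRingCat.of k))} [LocallyOfFiniteType X.hom] (f : X ⟶ G) (u : ∀ j, Y j ⟶ X)
    (hu : ∀ j, u j ≫ f = g j)
    (F : Set (𝟙_ (Over (Spec (CommRingCat.of k))) ⟶ G)) (hF : F.Finite)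
    (hFW : ∀ c ∈ F, c.left base₀ ∈ wordSet (one₁ f))
    (hcov : wordSet (one₁ f) ⊆ ⋃ c ∈ F, (fun w => (leftT c).left w) '' closure (wordSet g)) :
    ∃ Ls : Finset (List (PUnit.{1} × Bool)), closure (wordSet (one₁ f)) ⊆ eset (one₁ f) Ls := by
  classical
  haveI : ∀ j, GeometricallyConnected (Y j).hom := fun j => geometricallyConnected_of_rational (y j)
  have hy' : ∀ j, y j ≫ g j = η[G] := fun j => by rw [hy, Hom.one_def, toUnit_unit, Category.id_comp]
  obtain ⟨Γ, hΓ, i, hi, hci, -, -, hr, hfac, ⟨q, hq, hd⟩, -⟩ := exists_generated g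
  haveI := hci
  haveI := hi
  letI := hΓ
  haveI : Mono i := Over.mono_of_mono_left i
  haveI : LocallyOfFiniteType Γ.hom := by rw [← Over.w i]; infer_instance
  haveI : ConnectedSpace Γ.left := by
    have h := (isConnected_wordSet g y hy').closure
    rw [← hr, ← Set.image_univ] at h
    rw [connectedSpace_iff_univ]
    exact ⟨⟨η[Γ].left base₀, trivial⟩, i.left.isClosedEmbedding.isInducing.isPreconnected_image.1 h.isPreconnected⟩
  haveI := GrpSchLib.irreducibleSpace_of_connectedSpace (G := Γ)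
  choose g' hg' using hfac
  have hy1 : ∀ j, y j ≫ g' j = 1 := fun j => by
    rw [← cancel_mono i, Category.assoc, hg', hy, MonObj.one_comp]
  have hd' : Dense (wordSet g') := by
    refine hd.mono ?_
    refine Set.iUnion_subset fun l => ?_
    rw [show q l = word g' l by rw [← cancel_mono i, hq, word_comp i g' g hg']]
    exact Set.subset_iUnion (fun l => Set.range (word g' l).left) l
  obtain ⟨L, hL⟩ := exists_surjective_word g' y hy1 hd'
  obtain ⟨m, hm⟩ := word_factor (one₁ f) g (fun _ => PUnit.unit) u hu L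
  let L' := L.map fun a => (PUnit.unit.{1}, a.2)
  choose lc hlc using fun c : F => Set.mem_iUnion.1 (hFW c.1 c.2)
  haveI := hF.fintype
  refine ⟨Finset.univ.image fun c : F => lc c ++ L', ?_⟩
  have hU : IsClosed (⋃ c ∈ F, (fun w => (leftT c).left w) '' closure (wordSet g)) :=
    hF.isClosed_biUnion fun c _ => isClosedMap_leftT c _ isClosed_closure
  refine (closure_minimal hcov hU).trans (Set.iUnion₂_subset fun c hc => ?_)
  rintro _ ⟨w, hw, rfl⟩
  rw [← hr] at hw
  obtain ⟨v, rfl⟩ := hw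
  obtain ⟨p, rfl⟩ := hL v
  haveI : ∀ _ : PUnit.{1}, LocallyOfFiniteType X.hom := fun _ => inferInstance
  haveI := fun l => locallyOfFiniteType_src (k := k) (X := fun _ : PUnit.{1} => X) l
  obtain ⟨t, ht⟩ := exists_pt_lift (word (one₁ f) (lc ⟨c, hc⟩)) c (hlc ⟨c, hc⟩)
  obtain ⟨r, hr'⟩ := exists_append (one₁ f) _ _ (toUnit _ ≫ t) m
  refine Set.mem_biUnion (Finset.mem_image.2 ⟨⟨c, hc⟩, Finset.mem_univ _, rfl⟩) ⟨r.left p, ?_⟩
  show (word (one₁ f) (lc ⟨c, hc⟩ ++ L')).left (r.left p) = (leftT c).left (i.left ((word g' L).left p))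
  rw [← Scheme.Hom.comp_apply, ← Over.comp_left, hr', Category.assoc, ht, hm, ← Scheme.Hom.comp_apply,
    ← Scheme.Hom.comp_apply, ← Over.comp_left, ← Over.comp_left, ← Category.assoc, word_comp i g' g hg', comp_leftT]

variable {A B : Over (Spec (CommRingCat.of k))} [GrpObj A] [GrpObj B] (a : A ⟶ G) [IsMonHom a] (b : B ⟶ G) [IsMonHom b]
  [IsClosedImmersion a.left] [IsClosedImmersion b.left] [GeometricallyReduced A.hom] [GeometricallyReduced B.hom]

theorem mem_wordSet_of_comm {c : 𝟙_ (Over (Spec (CommRingCat.of k))) ⟶ G}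
    (hc : c ∈ (⁅(ptsHom a).range, (ptsHom b).range⁆ : Subgroup _)) :
    c.left base₀ ∈ wordSet (one₁ (commMap a b)) := by
  refine mem_wordSet_of_mem_closure (fun _ : PUnit.{1} => commMap a b) ?_
  rw [Subgroup.commutator_def] at hc
  refine (Subgroup.closure_le _).2 ?_ hc
  rintro _ ⟨_, ⟨x, rfl⟩, _, ⟨t, rfl⟩, rfl⟩
  refine Subgroup.subset_closure (Set.mem_iUnion.2 ⟨PUnit.unit, lift x t, ?_⟩)
  show lift x t ≫ commMap a b = _
  rw [comp_commMap, lift_fst, lift_snd]
  rfl

theorem cover_connected [QuasiCompact B.hom] [ConnectedSpace A.left] :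
    ∃ Ls : Finset (List (PUnit.{1} × Bool)),
      closure (wordSet (one₁ (commMap a b))) ⊆ eset (one₁ (commMap a b)) Ls := by
  haveI : LocallyOfFiniteType A.hom := by rw [← Over.w a]; infer_instance
  haveI := GrpSchLib.irreducibleSpace_of_connectedSpace (G := A)
  haveI : CompactSpace A.left := GrpSchLib.compactSpace_of_irreducibleSpace
  haveI : QuasiCompact A.hom := (quasiCompact_iff_compactSpace A.hom).2 inferInstance
  let g : ∀ _ : 𝟙_ (Over (Spec (CommRingCat.of k))) ⟶ B, A ⟶ G := fun t => lift (𝟙 A) (toUnit A ≫ t) ≫ commMap a b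
  haveI : ∀ _ : 𝟙_ (Over (Spec (CommRingCat.of k))) ⟶ B, IrreducibleSpace A.left := fun _ => inferInstance
  haveI : ∀ _ : 𝟙_ (Over (Spec (CommRingCat.of k))) ⟶ B, GeometricallyReduced A.hom := fun _ => inferInstance
  haveI : ∀ _ : 𝟙_ (Over (Spec (CommRingCat.of k))) ⟶ B, LocallyOfFiniteType A.hom := fun _ => inferInstance
  haveI : ∀ _ : 𝟙_ (Over (Spec (CommRingCat.of k))) ⟶ B, QuasiCompact A.hom := fun _ => inferInstance
  have hg : ∀ (t : 𝟙_ (Over (Spec (CommRingCat.of k))) ⟶ B) (x : 𝟙_ (Over (Spec (CommRingCat.of k))) ⟶ A),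
      x ≫ g t = ⁅x ≫ a, t ≫ b⁆ := fun t x => by
    rw [← Category.assoc, comp_lift, Category.comp_id, ← Category.assoc x, toUnit_unique (x ≫ toUnit A) (𝟙 _),
      Category.id_comp, comp_commMap, lift_fst, lift_snd]
  have hsub : wordSet (fun _ : PUnit.{1} => commMap a b) ⊆ closure (wordSet g) := by
    refine wordSet_comm_subset a b isClosed_closure fun w hw => subset_closure (mem_wordSet_of_mem_closure g ?_)
    rw [Subgroup.commutator_def] at hw
    refine (Subgroup.closure_le _).2 ?_ hw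
    rintro _ ⟨_, ⟨x, rfl⟩, _, ⟨t, rfl⟩, rfl⟩
    exact Subgroup.subset_closure (Set.mem_iUnion.2 ⟨t, x, hg t x⟩)
  haveI : LocallyOfFiniteType (A ⊗ B).hom := by
    haveI : LocallyOfFiniteType A.hom := by rw [← Over.w a]; infer_instance
    haveI : LocallyOfFiniteType B.hom := by rw [← Over.w b]; infer_instance
    exact lft_tensor A B
  refine exists_finite_cover g (fun _ => (1 : _ ⟶ A)) (fun t => by
      rw [hg, MonObj.one_comp, commutatorElement_one_left]) (commMap a b)
    (fun t => lift (𝟙 A) (toUnit A ≫ t)) (fun _ => rfl) {1} (Set.finite_singleton 1) ?_ ?_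
  · rintro _ rfl
    rw [Hom.one_def, toUnit_unit, Category.id_comp]
    exact one_mem_wordSet (one₁ (commMap a b)) base₀
  · refine hsub.trans fun w hw => Set.mem_biUnion rfl ⟨w, hw, ?_⟩
    have e : leftT (1 : 𝟙_ (Over (Spec (CommRingCat.of k))) ⟶ G) = 𝟙 G := by
      rw [← Category.id_comp (leftT _), comp_leftT, MonObj.comp_one, _root_.one_mul]
    show (leftT (1 : 𝟙_ (Over (Spec (CommRingCat.of k))) ⟶ G)).left w = w
    rw [e]
    rfl

theorem cover_normal [QuasiCompact A.hom] [QuasiCompact B.hom] (hA : AlgGrp.IsNormalHom a) (hB : AlgGrp.IsNormalHom b) :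
    ∃ Ls : Finset (List (PUnit.{1} × Bool)),
      closure (wordSet (one₁ (commMap a b))) ⊆ eset (one₁ (commMap a b)) Ls := by
  classical
  haveI : LocallyOfFiniteType A.hom := by rw [← Over.w a]; infer_instance
  haveI : LocallyOfFiniteType B.hom := by rw [← Over.w b]; infer_instance
  haveI : Mono a := Over.mono_of_mono_left a
  haveI : Mono b := Over.mono_of_mono_left b
  haveI := normal_range_of_isNormalHom a hA
  haveI := normal_range_of_isNormalHom b hB
  haveI := normal_idPts a hA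
  haveI := normal_idPts b hB
  let α := (ptsHom a).range
  let β := (ptsHom b).range
  let α₀ := (idPts A).map (ptsHom a)
  let β₀ := (idPts B).map (ptsHom b)
  let N : Subgroup (𝟙_ (Over (Spec (CommRingCat.of k))) ⟶ G) := ⁅α₀, β⁆ ⊔ ⁅α, β₀⁆
  have hND : N ≤ ⁅α, β⁆ := sup_le (Subgroup.commutator_mono ((idPts A).map_le_range (ptsHom a)) le_rfl)
    (Subgroup.commutator_mono le_rfl ((idPts B).map_le_range (ptsHom b)))
  let A₀ := GrpSchLib.idObj A
  let B₀ := GrpSchLib.idObj B
  let J := (𝟙_ (Over (Spec (CommRingCat.of k))) ⟶ B) ⊕ (𝟙_ (Over (Spec (CommRingCat.of k))) ⟶ A)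
  let Y : J → Over (Spec (CommRingCat.of k))
    | .inl _ => A₀
    | .inr _ => B₀
  let g : ∀ j, Y j ⟶ G
    | .inl t => lift (GrpSchLib.idIncl A) (toUnit A₀ ≫ t) ≫ commMap a b
    | .inr t => lift (toUnit B₀ ≫ t) (GrpSchLib.idIncl B) ≫ commMap a b
  haveI hA0r : IsReduced A₀.left := DVRCrit.isReduced_vanishingIdeal _
  haveI hB0r : IsReduced B₀.left := DVRCrit.isReduced_vanishingIdeal _
  haveI : ∀ j, IrreducibleSpace (Y j).left := fun j => by cases j <;> exact GrpSchLib.irreducibleSpace_idObj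
  haveI : ∀ j, GeometricallyReduced (Y j).hom := fun j => by
    cases j
    · exact AVLib.geometricallyReduced_of_perfect A₀.hom
    · exact AVLib.geometricallyReduced_of_perfect B₀.hom
  haveI hA0f : LocallyOfFiniteType A₀.hom := by rw [← Over.w (GrpSchLib.idIncl A)]; infer_instance
  haveI hB0f : LocallyOfFiniteType B₀.hom := by rw [← Over.w (GrpSchLib.idIncl B)]; infer_instance
  haveI : ∀ j, LocallyOfFiniteType (Y j).hom := fun j => by cases j; exacts [hA0f, hB0f]
  haveI : ∀ j, QuasiCompact (Y j).hom := fun j => by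
    cases j <;> exact (quasiCompact_iff_compactSpace _).2 GrpSchLib.compactSpace_idObj
  obtain ⟨eA, heA⟩ := exists_pt_lift (GrpSchLib.idIncl A) (1 : _ ⟶ A) (by
    rw [GrpSchLib.range_idIncl]; exact (idPts A).one_mem)
  obtain ⟨eB, heB⟩ := exists_pt_lift (GrpSchLib.idIncl B) (1 : _ ⟶ B) (by
    rw [GrpSchLib.range_idIncl]; exact (idPts B).one_mem)
  have hga : ∀ (t : 𝟙_ (Over (Spec (CommRingCat.of k))) ⟶ B) (x : 𝟙_ (Over (Spec (CommRingCat.of k))) ⟶ A₀),
      x ≫ g (.inl t) = ⁅(x ≫ GrpSchLib.idIncl A) ≫ a, t ≫ b⁆ := fun t x => by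
    show x ≫ lift (GrpSchLib.idIncl A) (toUnit A₀ ≫ t) ≫ commMap a b = _
    rw [← Category.assoc, comp_lift, ← Category.assoc x (toUnit A₀), toUnit_unique (x ≫ toUnit A₀) (𝟙 _),
      Category.id_comp, comp_commMap, lift_fst, lift_snd]
  have hgb : ∀ (t : 𝟙_ (Over (Spec (CommRingCat.of k))) ⟶ A) (x : 𝟙_ (Over (Spec (CommRingCat.of k))) ⟶ B₀),
      x ≫ g (.inr t) = ⁅t ≫ a, (x ≫ GrpSchLib.idIncl B) ≫ b⁆ := fun t x => by
    show x ≫ lift (toUnit B₀ ≫ t) (GrpSchLib.idIncl B) ≫ commMap a b = _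
    rw [← Category.assoc, comp_lift, ← Category.assoc x (toUnit B₀), toUnit_unique (x ≫ toUnit B₀) (𝟙 _),
      Category.id_comp, comp_commMap, lift_fst, lift_snd]
  let y : ∀ j, 𝟙_ (Over (Spec (CommRingCat.of k))) ⟶ Y j
    | .inl _ => eA
    | .inr _ => eB
  have hy : ∀ j, y j ≫ g j = 1 := by
    rintro (t | t)
    · show eA ≫ g (.inl t) = 1
      rw [hga, heA, MonObj.one_comp, commutatorElement_one_left]
    · show eB ≫ g (.inr t) = 1
      rw [hgb, heB, MonObj.one_comp, commutatorElement_one_right]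
  have hgN : Subgroup.closure (⋃ j, Set.range (fun w : 𝟙_ (Over (Spec (CommRingCat.of k))) ⟶ Y j => w ≫ g j)) = N := by
    refine le_antisymm ((Subgroup.closure_le _).2 (Set.iUnion_subset ?_)) (sup_le ?_ ?_)
    · rintro (t | t) _ ⟨x, rfl⟩
      · refine Subgroup.mem_sup_left ?_
        show x ≫ g (.inl t) ∈ _
        rw [hga]
        refine Subgroup.commutator_mem_commutator ⟨_, ?_, rfl⟩ ⟨_, rfl⟩
        show (x ≫ GrpSchLib.idIncl A).left base₀ ∈ GrpSchLib.idComp A
        rw [← GrpSchLib.range_idIncl]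
        exact ⟨x.left base₀, rfl⟩
      · refine Subgroup.mem_sup_right ?_
        show x ≫ g (.inr t) ∈ _
        rw [hgb]
        refine Subgroup.commutator_mem_commutator ⟨_, rfl⟩ ⟨_, ?_, rfl⟩
        show (x ≫ GrpSchLib.idIncl B).left base₀ ∈ GrpSchLib.idComp B
        rw [← GrpSchLib.range_idIncl]
        exact ⟨x.left base₀, rfl⟩
    · refine Subgroup.commutator_le.2 ?_
      rintro _ ⟨x, hx, rfl⟩ _ ⟨t, rfl⟩
      obtain ⟨x', rfl⟩ := exists_pt_lift (GrpSchLib.idIncl A) x (by rw [GrpSchLib.range_idIncl]; exact hx)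
      exact Subgroup.subset_closure (Set.mem_iUnion.2 ⟨.inl t, x', hga t x'⟩)
    · refine Subgroup.commutator_le.2 ?_
      rintro _ ⟨t, rfl⟩ _ ⟨x, hx, rfl⟩
      obtain ⟨x', rfl⟩ := exists_pt_lift (GrpSchLib.idIncl B) x (by rw [GrpSchLib.range_idIncl]; exact hx)
      exact Subgroup.subset_closure (Set.mem_iUnion.2 ⟨.inr t, x', hgb t x'⟩)
  -- finitely many cosets
  let π := QuotientGroup.mk' N
  haveI : (α.map π).Normal := Subgroup.Normal.map inferInstance π (QuotientGroup.mk'_surjective N)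
  haveI : (β.map π).Normal := Subgroup.Normal.map inferInstance π (QuotientGroup.mk'_surjective N)
  obtain ⟨FA, hFA, hFA'⟩ := exists_reps (A := A)
  obtain ⟨FB, hFB, hFB'⟩ := exists_reps (A := B)
  have hS : {q | ∃ x ∈ α.map π, ∃ t ∈ β.map π, ⁅x, t⁆ = q}.Finite := by
    refine (Set.Finite.image2 (fun r s => π ⁅r ≫ a, s ≫ b⁆) hFA hFB).subset ?_
    rintro _ ⟨_, ⟨_, ⟨x, rfl⟩, rfl⟩, _, ⟨_, ⟨t, rfl⟩, rfl⟩, rfl⟩
    obtain ⟨r, hr, hx⟩ := hFA' x
    obtain ⟨s, hs, ht⟩ := hFB' t
    refine ⟨r, hr, s, hs, ?_⟩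
    show π ⁅ptsHom a r, ptsHom b s⁆ = ⁅π (ptsHom a x), π (ptsHom b t)⁆
    have h1 : π ⁅ptsHom a (r⁻¹ * x), ptsHom b t⁆ = 1 :=
      (QuotientGroup.eq_one_iff _).2 (Subgroup.mem_sup_left
        (Subgroup.commutator_mem_commutator ⟨_, hx, rfl⟩ ⟨_, rfl⟩))
    have h2 : π ⁅ptsHom a r, ptsHom b (s⁻¹ * t)⁆ = 1 :=
      (QuotientGroup.eq_one_iff _).2 (Subgroup.mem_sup_right
        (Subgroup.commutator_mem_commutator ⟨_, rfl⟩ ⟨_, ht, rfl⟩))
    have ex : x = r * (r⁻¹ * x) := (mul_inv_cancel_left r x).symm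
    have et : t = s * (s⁻¹ * t) := (mul_inv_cancel_left s t).symm
    have e1 : ⁅π (ptsHom a x), π (ptsHom b t)⁆ =
        π (ptsHom a r) * π ⁅ptsHom a (r⁻¹ * x), ptsHom b t⁆ * (π (ptsHom a r))⁻¹ * π ⁅ptsHom a r, ptsHom b t⁆ := by
      conv_lhs => rw [ex]
      simp only [map_mul, map_inv, map_commutatorElement, commutatorElement_def]
      group
    have e2 : π ⁅ptsHom a r, ptsHom b t⁆ =
        π ⁅ptsHom a r, ptsHom b s⁆ * (π (ptsHom b s) * π ⁅ptsHom a r, ptsHom b (s⁻¹ * t)⁆ * (π (ptsHom b s))⁻¹) := by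
      conv_lhs => rw [et]
      simp only [map_mul, map_inv, map_commutatorElement, commutatorElement_def]
      group
    rw [e1, h1, e2, h2]
    group
  have hfin := finite_commutator_of_finite (α.map π) (β.map π) hS
  let out : _ ⧸ N → (𝟙_ (Over (Spec (CommRingCat.of k))) ⟶ G) := fun q => q.out
  let F := out '' ((⁅α.map π, β.map π⁆ : Subgroup _) : Set _)
  let U : Set G.left := ⋃ c ∈ F, (fun w => (leftT c).left w) '' closure (wordSet g)
  have hU : IsClosed U := (hfin.image out).isClosed_biUnion fun c _ => isClosedMap_leftT c _ isClosed_closure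
  have hDU : ∀ d ∈ ⁅α, β⁆, d.left base₀ ∈ U := by
    intro d hd
    have hq : π d ∈ ⁅α.map π, β.map π⁆ := by
      rw [← Subgroup.map_commutator]; exact ⟨d, hd, rfl⟩
    refine Set.mem_biUnion ⟨π d, hq, rfl⟩ ?_
    have hn : (out (π d))⁻¹ * d ∈ N := QuotientGroup.eq.1 (QuotientGroup.out_eq' (π d))
    refine ⟨((out (π d))⁻¹ * d).left base₀, subset_closure (mem_wordSet_of_mem_closure g (hgN.symm ▸ hn)), ?_⟩
    show (leftT (out (π d))).left _ = _
    rw [← Scheme.Hom.comp_apply, ← Over.comp_left, comp_leftT, toUnit_unit, Category.id_comp, mul_inv_cancel_left]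
  haveI : LocallyOfFiniteType (A ⊗ B).hom := by
    haveI : LocallyOfFiniteType A.hom := by rw [← Over.w a]; infer_instance
    haveI : LocallyOfFiniteType B.hom := by rw [← Over.w b]; infer_instance
    exact lft_tensor A B
  refine exists_finite_cover g y hy (commMap a b) (fun j => match j with
    | .inl t => lift (GrpSchLib.idIncl A) (toUnit A₀ ≫ t)
    | .inr t => lift (toUnit B₀ ≫ t) (GrpSchLib.idIncl B)) (fun j => by cases j <;> rfl) F (hfin.image out) ?_
    (wordSet_comm_subset a b hU hDU)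
  rintro _ ⟨q, hq, rfl⟩
  have hcD : out q ∈ ⁅α, β⁆ := by
    rw [← Subgroup.map_commutator] at hq
    obtain ⟨d, hd, rfl⟩ := hq
    have hn : (out (π d))⁻¹ * d ∈ N := QuotientGroup.eq.1 (QuotientGroup.out_eq' (π d))
    have := mul_mem hd (inv_mem (hND hn))
    rwa [mul_inv_rev, inv_inv, mul_inv_cancel_left] at this
  exact mem_wordSet_of_comm a b hcD

end AlgClosed

section AnyField

variable {k : Type u} [Field k] {G : Over (Spec (CommRingCat.of k))} [GrpObj G] [LocallyOfFiniteType G.hom]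

theorem isNormalHom_map {S S' : Scheme.{u}} (σ : S' ⟶ S) {N G : Over S} [GrpObj N] [GrpObj G] (i : N ⟶ G) [IsMonHom i]
    (h : AlgGrp.IsNormalHom i) : AlgGrp.IsNormalHom (N := Red.bc σ N) (G := Red.bc σ G) ((Over.pullback σ).map i) := by
  obtain ⟨n', hn'⟩ := h (G ⊗ N) (fst G N) (snd G N)
  intro T g n
  refine ⟨lift g n ≫ Functor.LaxMonoidal.μ (Over.pullback σ) G N ≫ (Over.pullback σ).map n', ?_⟩
  rw [Category.assoc, Category.assoc, ← Functor.map_comp, ← hn']
  simp [Functor.map_mul, Functor.map_inv', MonObj.comp_mul, GrpObj.comp_inv, Functor.Monoidal.μ_fst_assoc,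
    Functor.Monoidal.μ_snd_assoc, Functor.Monoidal.μ_fst, Functor.Monoidal.μ_snd]

theorem geometricallyReduced_smooth (P : Over (Spec (CommRingCat.of k))) [Smooth P.hom] : GeometricallyReduced P.hom :=
  AVLib.geometricallyReduced_of_smooth P.hom

theorem commMap_bc {S' : Scheme.{u}} {k' : Type u} [Field k'] (σ : Spec (CommRingCat.of k') ⟶ S')
    {G A B : Over S'} [GrpObj G] (a : A ⟶ G) (b : B ⟶ G) :
    (Functor.Monoidal.μIso (Over.pullback σ) A B).hom ≫
      (Over.pullback σ).map ((fst A B ≫ a) * (snd A B ≫ b) * (fst A B ≫ a)⁻¹ * (snd A B ≫ b)⁻¹) =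
      commMap ((Over.pullback σ).map a) ((Over.pullback σ).map b) := by
  simp [commMap, Functor.map_mul, Functor.map_inv', MonObj.comp_mul, GrpObj.comp_inv,
    Functor.Monoidal.μ_fst_assoc, Functor.Monoidal.μ_snd_assoc]

/-- The commutator subgroup of two smooth subgroups, with finitely many words covering it. -/
theorem exists_comm_generated {A B : Over (Spec (CommRingCat.of k))} [GrpObj A] [GrpObj B] (a : A ⟶ G) [IsMonHom a]
    (b : B ⟶ G) [IsMonHom b] [IsImmersion a.left] [IsImmersion b.left] [Smooth A.hom] [Smooth B.hom]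
    [QuasiCompact A.hom] [QuasiCompact B.hom]
    (hcase : ConnectedSpace A.left ∨ (AlgGrp.IsNormalHom a ∧ AlgGrp.IsNormalHom b)) :
    ∃ (Γ : Over (Spec (CommRingCat.of k))) (_ : GrpObj Γ) (i : Γ ⟶ G), IsMonHom i ∧ IsClosedImmersion i.left ∧
      GeometricallyReduced Γ.hom ∧ (∃ q : A ⊗ B ⟶ Γ, q ≫ i = commMap a b) ∧
      (AlgGrp.IsNormalHom a → AlgGrp.IsNormalHom b → AlgGrp.IsNormalHom i) ∧
      ∃ Ls : Finset (List (PUnit.{1} × Bool)), Set.range i.left = eset (one₁ (commMap a b)) Ls := by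
  classical
  haveI := S0351.result k A G a
  haveI := S0351.result k B G b
  haveI := geometricallyReduced_smooth A
  haveI := geometricallyReduced_smooth B
  haveI := geometricallyReduced_tensor A B
  haveI : ∀ _ : PUnit.{1}, GeometricallyReduced (A ⊗ B).hom := fun _ => inferInstance
  obtain ⟨Γ, hΓ, i, hi, hci, -, hgr, hr, hfac, -, hmin⟩ := exists_generated (one₁ (commMap a b))
  letI := hΓ
  haveI := hi
  haveI := hci
  refine ⟨Γ, hΓ, i, hi, hci, hgr, hfac PUnit.unit, fun hA hB => isNormalHom_commutator a b hA hB _ rfl Γ i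
    (hfac PUnit.unit) (fun Γ' h' i' h1 h2 h3 => hmin Γ' h' i' h1 h2 fun _ => h3), ?_⟩
  let K := AlgebraicClosure k
  let σ : Spec (CommRingCat.of K) ⟶ Spec (CommRingCat.of k) := Spec.map (CommRingCat.ofHom (algebraMap k K))
  let aK := (Over.pullback σ).map a
  let bK := (Over.pullback σ).map b
  let iK := (Over.pullback σ).map i
  let e := Functor.Monoidal.μIso (Over.pullback σ) A B
  have he : e.hom ≫ (Over.pullback σ).map (commMap a b) = commMap aK bK := commMap_bc σ a b
  haveI : IsClosedImmersion aK.left :=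
    MorphismProperty.of_isPullback (isPullback_map σ a).flip ‹IsClosedImmersion a.left›
  haveI : IsClosedImmersion bK.left :=
    MorphismProperty.of_isPullback (isPullback_map σ b).flip ‹IsClosedImmersion b.left›
  haveI : IsClosedImmersion iK.left :=
    MorphismProperty.of_isPullback (isPullback_map σ i).flip ‹IsClosedImmersion i.left›
  haveI : LocallyOfFiniteType (Red.bc σ G).hom := MorphismProperty.pullback_snd _ _ (inferInstance : LocallyOfFiniteType G.hom)
  haveI : Smooth (Red.bc σ A).hom := MorphismProperty.pullback_snd _ _ (inferInstance : Smooth A.hom)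
  haveI : Smooth (Red.bc σ B).hom := MorphismProperty.pullback_snd _ _ (inferInstance : Smooth B.hom)
  haveI : QuasiCompact (Red.bc σ A).hom := MorphismProperty.pullback_snd _ _ (inferInstance : QuasiCompact A.hom)
  haveI : QuasiCompact (Red.bc σ B).hom := MorphismProperty.pullback_snd _ _ (inferInstance : QuasiCompact B.hom)
  haveI := geometricallyReduced_smooth (Red.bc σ A)
  haveI := geometricallyReduced_smooth (Red.bc σ B)
  have hgK : ∀ _ : PUnit.{1}, GeometricallyReduced ((Over.pullback σ).obj (A ⊗ B)).hom := fun _ =>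
    MorphismProperty.pullback_snd _ _ (inferInstance : GeometricallyReduced (A ⊗ B).hom)
  obtain ⟨-, -, hrK, -⟩ := @props_of_min K _ (Red.bc σ G) _ PUnit.{1} (fun _ => (Over.pullback σ).obj (A ⊗ B)) (fun _ => (Over.pullback σ).map (commMap a b)) hgK (Red.bc σ Γ) _ iK _ _
    (fun j => by obtain ⟨q, hq⟩ := hfac j; exact ⟨(Over.pullback σ).map q, by rw [← Functor.map_comp, hq]⟩)
    (fun Γ' _ i' _ _ h => universal_of_min σ (one₁ (commMap a b)) i hfac hmin Γ' i' h)
  have hws : wordSet (one₁ (commMap aK bK)) = wordSet (one₁ ((Over.pullback σ).map (commMap a b))) :=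
    wordSet_iso _ _ (fun _ => e) fun _ => he
  obtain ⟨Ls, hLs⟩ : ∃ Ls : Finset (List (PUnit.{1} × Bool)),
      closure (wordSet (one₁ (commMap aK bK))) ⊆ eset (one₁ (commMap aK bK)) Ls := by
    rcases hcase with hc | ⟨hA, hB⟩
    · haveI : GeometricallyConnected A.hom := geometricallyConnected_of_rational η[A]
      haveI : GeometricallyConnected (Red.bc σ A).hom :=
        MorphismProperty.pullback_snd _ _ (inferInstance : GeometricallyConnected A.hom)
      haveI : ConnectedSpace (Red.bc σ A).left := by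
        haveI : Subsingleton ↥(Spec (CommRingCat.of K)) := inferInstanceAs (Subsingleton (PrimeSpectrum K))
        haveI : Nonempty ↥(Spec (CommRingCat.of K)) := ⟨IsLocalRing.closedPoint K⟩
        exact GeometricallyConnected.connectedSpace_of_subsingleton (f := (Red.bc σ A).hom)
      exact cover_connected aK bK
    · exact cover_normal aK bK (isNormalHom_map σ a hA) (isNormalHom_map σ b hB)
  refine ⟨Ls, Set.Subset.antisymm ?_ ((eset_subset_wordSet _ _).trans (wordSet_subset_range i _ hfac))⟩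
  rintro _ ⟨z, rfl⟩
  haveI : Surjective (pullback.fst Γ.hom σ) := inferInstance
  obtain ⟨zK, rfl⟩ := (pullback.fst Γ.hom σ).surjective z
  have hmem : iK.left zK ∈ eset (one₁ (commMap aK bK)) Ls := hLs (hws ▸ hrK ▸ Set.mem_range_self zK)
  rw [eset_iso (one₁ ((Over.pullback σ).map (commMap a b))) (one₁ (commMap aK bK)) (fun _ => e) (fun _ => he)] at hmem
  have h2 : iK.left zK ∈ pullback.fst G.hom σ ⁻¹' eset (one₁ (commMap a b)) Ls := eset_bc σ (one₁ (commMap a b)) Ls ▸ hmem
  rw [Set.mem_preimage] at h2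
  exact (congrArg (fun φ => φ zK) (isPullback_map σ i).w).symm ▸ h2

end AnyField

end Groth.Agent.CommSpreadLib

end
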