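import Groth.Agent.CommSpreadLib.Spread
import Groth.Agent.CommSpreadLib.Field
import Groth.Agent.S0420

/-!
# The commutator subgroup of the generic fibre spreads out
-/

set_option autoImplicit false
set_option backward.isDefEq.respectTransparency false
set_option backward.isDefEq.respectTransparency.types false
set_option linter.style.haveILetI false
set_option linter.unusedSectionVars false

universe u

open CategoryTheory CategoryTheory.Limits MonoidalCategory CartesianMonoidalCategory MonObj AlgebraicGeometry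
open Groth.Agent.GenSubLib

noncomputable section

namespace Groth.Agent.CommSpreadLib

variable {S : Scheme.{u}} [IsIntegral S] (G A B : Over S) [GrpObj G] [GrpObj A] [GrpObj B]
  [LocallyOfFinitePresentation G.hom] [QuasiCompact G.hom] [QuasiSeparated G.hom]
  [LocallyOfFinitePresentation A.hom] [QuasiCompact A.hom]
  [LocallyOfFinitePresentation B.hom] [QuasiCompact B.hom]
  (a : A ⟶ G) [IsMonHom a] [IsImmersion a.left] (b : B ⟶ G) [IsMonHom b] [IsImmersion b.left]

/-- The commutator morphism over any base. -/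
abbrev commS : A ⊗ B ⟶ G := (fst A B ≫ a) * (snd A B ≫ b) * (fst A B ≫ a)⁻¹ * (snd A B ≫ b)⁻¹

/-- The commutator morphism survives a double base change. -/
theorem commS_bc₂ {S' : Scheme.{u}} (τ : S' ⟶ S) {k : Type u} [Field k] (σ : Spec (CommRingCat.of k) ⟶ S') :
    ∃ e : Red.bc σ (Red.bc τ A) ⊗ Red.bc σ (Red.bc τ B) ≅ Red.bc σ (Red.bc τ (A ⊗ B)),
      e.hom ≫ (Over.pullback σ).map ((Over.pullback τ).map (commS G A B a b)) =
        commMap ((Over.pullback σ).map ((Over.pullback τ).map a)) ((Over.pullback σ).map ((Over.pullback τ).map b)) := by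
  refine ⟨Functor.Monoidal.μIso (Over.pullback σ) _ _ ≪≫
    (Over.pullback σ).mapIso (Functor.Monoidal.μIso (Over.pullback τ) A B), ?_⟩
  simp only [Iso.trans_hom, Functor.mapIso_hom, Functor.Monoidal.μIso_hom, Category.assoc]
  rw [← Functor.map_comp]
  have h : Functor.LaxMonoidal.μ (Over.pullback τ) A B ≫ (Over.pullback τ).map (commS G A B a b) =
      commS (Red.bc τ G) (Red.bc τ A) (Red.bc τ B) ((Over.pullback τ).map a) ((Over.pullback τ).map b) := by
    simp [commS, Functor.map_mul, Functor.map_inv', MonObj.comp_mul, GrpObj.comp_inv,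
      Functor.Monoidal.μ_fst_assoc, Functor.Monoidal.μ_snd_assoc]
  rw [h]
  exact commMap_bc σ _ _

variable (hsmA : Smooth (Red.bc (S.fromSpecResidueField (genericPoint S)) A).hom)
  (hsmB : Smooth (Red.bc (S.fromSpecResidueField (genericPoint S)) B).hom)
  (hcase : ConnectedSpace (Red.bc (S.fromSpecResidueField (genericPoint S)) A).left ∨
    (AlgGrp.IsNormalHom a ∧ AlgGrp.IsNormalHom b))

include hsmA hsmB hcase in
/-- The words covering the generic commutator subgroup spread out. -/
theorem exists_comm_spread (U₀ : S.Opens) (hU₀ : genericPoint S ∈ U₀) :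
    ∃ (Ls : Finset (List (PUnit.{1} × Bool))) (U : S.Opens), U ≤ U₀ ∧ genericPoint S ∈ U ∧
      ∀ {S' : Scheme.{u}} (τ : S' ⟶ S), Thru U τ →
        Out G (fun _ : PUnit.{1} => A ⊗ B) (fun _ : PUnit.{1} => commS G A B a b) Ls
          (AlgGrp.IsNormalHom a ∧ AlgGrp.IsNormalHom b) τ := by
  let σ := S.fromSpecResidueField (genericPoint S)
  let aσ := (Over.pullback σ).map a
  let bσ := (Over.pullback σ).map b
  haveI : IsImmersion aσ.left := MorphismProperty.of_isPullback (isPullback_map σ a).flip ‹IsImmersion a.left›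
  haveI : IsImmersion bσ.left := MorphismProperty.of_isPullback (isPullback_map σ b).flip ‹IsImmersion b.left›
  haveI : LocallyOfFiniteType (Red.bc σ G).hom := MorphismProperty.pullback_snd _ _ (inferInstance : LocallyOfFiniteType G.hom)
  haveI : QuasiCompact (Red.bc σ A).hom := MorphismProperty.pullback_snd _ _ (inferInstance : QuasiCompact A.hom)
  haveI : QuasiCompact (Red.bc σ B).hom := MorphismProperty.pullback_snd _ _ (inferInstance : QuasiCompact B.hom)
  haveI := hsmA
  haveI := hsmB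
  obtain ⟨Γ, hΓ, i, hi, hci, hgr, ⟨q, hq⟩, hn, Ls, hr⟩ := exists_comm_generated aσ bσ
    (hcase.imp_right fun h => ⟨isNormalHom_map σ a h.1, isNormalHom_map σ b h.2⟩)
  letI := hΓ
  haveI := hi
  haveI := hci
  haveI := hgr
  haveI : LocallyOfFiniteType Γ.hom := by rw [← Over.w i]; infer_instance
  haveI : GrpObj (Over.mk Γ.hom) := ‹GrpObj Γ›
  haveI : Smooth Γ.hom := smooth_of_grpObj Γ.hom
  let e := Functor.Monoidal.μIso (Over.pullback σ) A B
  have he : e.hom ≫ (Over.pullback σ).map (commS G A B a b) = commMap aσ bσ := commMap_bc σ a b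
  have hl : ∀ _ : PUnit.{1}, LocallyOfFinitePresentation (A ⊗ B).hom := fun _ => (props_tensor A B).1
  have hc : ∀ _ : PUnit.{1}, QuasiCompact (A ⊗ B).hom := fun _ => (props_tensor A B).2
  obtain ⟨U, hU, hη, H⟩ := @exists_spread S _ G _ _ _ _ PUnit.{1} _ (fun _ => A ⊗ B) hl hc (fun _ : PUnit.{1} => commS G A B a b)
    (fun _ => prop_bc_tensor @Smooth σ A B hsmA hsmB) Ls Γ _ i _ _ _
    (hr.trans (eset_iso (fun _ : PUnit.{1} => (Over.pullback σ).map (commS G A B a b)) (one₁ (commMap aσ bσ))
      (fun _ => e) (fun _ => he) Ls))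
    (fun _ => ⟨e.inv ≫ q, by rw [Category.assoc, hq, ← he, Iso.inv_hom_id_assoc]⟩) U₀ hU₀
  refine ⟨Ls, U, hU, hη, fun τ hτ => ?_⟩
  obtain ⟨D, hD, d, h1, h2, h3, h4, h5, h6, h7, h8⟩ := (H τ hτ).1
  exact ⟨D, hD, d, h1, h2, h3, h4, h5, h6, h7, fun h => h8 (hn (isNormalHom_map σ a h.1) (isNormalHom_map σ b h.2))⟩

theorem eq_wordSet_of_out {k : Type u} [Field k] {H D : Over (Spec (CommRingCat.of k))} [GrpObj H] [GrpObj D] {J : Type*}
    {X : J → Over (Spec (CommRingCat.of k))} (f : ∀ j, X j ⟶ H) (Ls : Finset (List (J × Bool))) (d : D ⟶ H) [IsMonHom d]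
    (hr : Set.range d.left = eset f Ls) (hf : ∀ j, ∃ q : X j ⟶ D, q ≫ d = f j) :
    Set.range d.left = wordSet f :=
  Set.Subset.antisymm (hr.le.trans (eset_subset_wordSet f Ls)) (wordSet_subset_range d f hf)

theorem min_of_range {k : Type u} [Field k] {H D : Over (Spec (CommRingCat.of k))} [GrpObj H] [GrpObj D] {J : Type*}
    {X : J → Over (Spec (CommRingCat.of k))} (f : ∀ j, X j ⟶ H) (d : D ⟶ H) [Smooth D.hom]
    (hr : Set.range d.left ⊆ wordSet f)
    (Γ' : Over (Spec (CommRingCat.of k))) [GrpObj Γ'] (i' : Γ' ⟶ H) [IsMonHom i'] [IsClosedImmersion i'.left]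
    (h : ∀ j, ∃ q : X j ⟶ Γ', q ≫ i' = f j) : ∃ j : D ⟶ Γ', j ≫ i' = d := by
  haveI := AVLib.geometricallyReduced_of_smooth D.hom
  haveI := GenSubLib.isReduced_self D
  exact GenSubLib.exists_lift_of_range i' d (hr.trans (wordSet_subset_range i' f h))

end Groth.Agent.CommSpreadLib

end
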