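import Groth.Agent.CommSpreadLib.Family
import Groth.Agent.GenFree.Scheme
import Groth.Agent.FlatLocus.ImageClosure
import Groth.Agent.MonoFibre.SchemeImage
import Groth.Agent.S16049

/-!
# Opens around the generic point
-/

set_option autoImplicit false
set_option backward.isDefEq.respectTransparency false
set_option backward.isDefEq.respectTransparency.types false
set_option linter.style.haveILetI false
set_option linter.unusedSectionVars false

universe u

open CategoryTheory CategoryTheory.Limits MonoidalCategory CartesianMonoidalCategory MonObj AlgebraicGeometry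

noncomputable section

namespace Groth.Agent.CommSpreadLib

variable {S : Scheme.{u}}

/-- The morphism goes through the open. -/
def Thru (U : S.Opens) {S' : Scheme.{u}} (τ : S' ⟶ S) : Prop := ∃ g : S' ⟶ U, g ≫ U.ι = τ

theorem thru_ι (U : S.Opens) : Thru U U.ι := ⟨𝟙 _, Category.id_comp _⟩

theorem Thru.mono {U V : S.Opens} (h : U ≤ V) {S' : Scheme.{u}} {τ : S' ⟶ S} (ht : Thru U τ) : Thru V τ := by
  obtain ⟨g, rfl⟩ := ht
  exact ⟨g ≫ S.homOfLE h, by rw [Category.assoc, S.homOfLE_ι]⟩

theorem Thru.comp {U : S.Opens} {S' S'' : Scheme.{u}} {τ : S' ⟶ S} (ht : Thru U τ) (g : S'' ⟶ S') : Thru U (g ≫ τ) := by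
  obtain ⟨g', rfl⟩ := ht
  exact ⟨g ≫ g', Category.assoc _ _ _⟩

theorem prop_bc_of_comp (P : MorphismProperty Scheme.{u}) [P.IsStableUnderBaseChange] {S' S'' : Scheme.{u}}
    (τ : S' ⟶ S) (g : S'' ⟶ S') (X : Over S) (h : P (Red.bc τ X).hom) : P (Red.bc (g ≫ τ) X).hom := by
  have hsq : IsPullback (pullback.lift (f := X.hom) (g := τ) (pullback.fst X.hom (g ≫ τ)) (pullback.snd X.hom (g ≫ τ) ≫ g)
      (by rw [Category.assoc, pullback.condition])) (pullback.snd X.hom (g ≫ τ)) (pullback.snd X.hom τ) g := by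
    refine IsPullback.of_right (h₁₂ := pullback.fst X.hom τ) (h₂₂ := τ) ?_ (pullback.lift_snd _ _ _)
      (IsPullback.of_hasPullback X.hom τ)
    rw [pullback.lift_fst]
    exact IsPullback.of_hasPullback _ _
  exact MorphismProperty.of_isPullback hsq h

theorem Thru.prop (P : MorphismProperty Scheme.{u}) [P.IsStableUnderBaseChange] {U : S.Opens} {S' : Scheme.{u}}
    {τ : S' ⟶ S} (ht : Thru U τ) (X : Over S) (h : P (Red.bc U.ι X).hom) : P (Red.bc τ X).hom := by
  obtain ⟨g, rfl⟩ := ht
  exact prop_bc_of_comp P U.ι g X h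

theorem prop_bc_bc (P : MorphismProperty Scheme.{u}) [P.RespectsIso] {S' S'' : Scheme.{u}} (τ : S' ⟶ S) (g : S'' ⟶ S')
    (X : Over S) : P (Red.bc g (Red.bc τ X)).hom ↔ P (Red.bc (g ≫ τ) X).hom := by
  show P (pullback.snd (pullback.snd X.hom τ) g) ↔ P (pullback.snd X.hom (g ≫ τ))
  rw [← pullbackLeftPullbackSndIso_hom_snd X.hom τ g, P.cancel_left_of_respectsIso]

theorem prop_bc_tensor (P : MorphismProperty Scheme.{u}) [P.IsStableUnderBaseChange] [P.IsStableUnderComposition]
    {S' : Scheme.{u}} (τ : S' ⟶ S) (A B : Over S) (hA : P (Red.bc τ A).hom) (hB : P (Red.bc τ B).hom) :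
    P (Red.bc τ (A ⊗ B)).hom := by
  let e := Functor.Monoidal.μIso (Over.pullback τ) A B
  have h : P (Red.bc τ A ⊗ Red.bc τ B).hom :=
    P.comp_mem (pullback.fst (Red.bc τ A).hom (Red.bc τ B).hom) (Red.bc τ A).hom
      (MorphismProperty.pullback_fst _ _ hB) hA
  haveI : IsIso e.inv.left := inferInstanceAs (IsIso ((Over.forget _).map e.inv))
  rw [← Over.w e.inv]
  exact (P.cancel_left_of_respectsIso e.inv.left _).2 h

theorem isLocallyConstructible_compl {T : Type*} [TopologicalSpace T] {C : Set T} (hC : Topology.IsLocallyConstructible C) :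
    Topology.IsLocallyConstructible Cᶜ := fun x => by
  obtain ⟨U, hxU, hUo, hU⟩ := hC x
  exact ⟨U, hxU, hUo, hU.compl⟩

variable [IsIntegral S]

theorem genericPoint_mem_of_nonempty {U : S.Opens} (h : (U : Set S).Nonempty) : genericPoint S ∈ U :=
  (genericPoint_spec S).mem_open_set_iff U.2 |>.2 (by simpa using h)

/-- The closed point of the generic residue field spectrum lifts to every open. -/
theorem thru_generic {U : S.Opens} (hη : genericPoint S ∈ U) : Thru U (S.fromSpecResidueField (genericPoint S)) := by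
  refine ⟨IsOpenImmersion.lift U.ι _ ?_, IsOpenImmersion.lift_fac _ _ _⟩
  rw [Scheme.Opens.range_ι, Scheme.range_fromSpecResidueField]
  exact Set.singleton_subset_iff.2 hη

instance dominant_generic : IsDominant (S.fromSpecResidueField (genericPoint S)) := by
  rw [isDominant_iff, DenseRange, Scheme.range_fromSpecResidueField, dense_iff_closure_eq]
  exact genericPoint_spec S

/-- An open avoiding a closed image. -/
theorem exists_open_avoid_closed {X : Scheme.{u}} (f : X ⟶ S) [QuasiCompact f] {Z : Set X} (hZ : IsClosed Z)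
    (h : ∀ x ∈ Z, f x ≠ genericPoint S) : ∃ U : S.Opens, genericPoint S ∈ U ∧ ∀ x ∈ Z, f x ∉ U := by
  refine ⟨⟨(closure (f '' Z))ᶜ, isClosed_closure.isOpen_compl⟩, fun hη => ?_, fun x hx hU =>
    hU (subset_closure ⟨x, hx, rfl⟩)⟩
  obtain ⟨x, hx, hs⟩ := FlatLocus.exists_specializes_of_mem_closure_image f hZ hη
  exact h x hx (hs.antisymm (genericPoint_specializes _)).eq

/-- An open avoiding a constructible set. -/
theorem exists_open_avoid {C : Set S} (hC : Topology.IsLocallyConstructible C) (hη : genericPoint S ∉ C) :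
    ∃ U : S.Opens, genericPoint S ∈ U ∧ ∀ s ∈ U, s ∉ C := by
  have hd : Dense Cᶜ := by
    rw [dense_iff_closure_eq, Set.eq_univ_iff_forall]
    exact fun y => (genericPoint_specializes y).mem_closed isClosed_closure (subset_closure hη)
  have hne := (MonoFibre.SchemeImage.dense_interior_of_isLocallyConstructible (Groth.Agent.CommSpreadLib.isLocallyConstructible_compl hC) hd).nonempty
  exact ⟨⟨interior Cᶜ, isOpen_interior⟩, genericPoint_mem_of_nonempty hne, fun s hs => interior_subset hs⟩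

theorem exists_flat_open (X : Over S) [LocallyOfFiniteType X.hom] [QuasiCompact X.hom] :
    ∃ U : S.Opens, genericPoint S ∈ U ∧ Flat (Red.bc U.ι X).hom ∧ LocallyOfFinitePresentation (Red.bc U.ι X).hom := by
  obtain ⟨U, hU, h1, h2⟩ := GenFree.exists_good_open X.hom
  refine ⟨U, genericPoint_mem_of_nonempty hU.nonempty, ?_, ?_⟩
  · show Flat (pullback.snd X.hom U.ι)
    rw [← (isPullback_morphismRestrict X.hom U).flip.isoPullback_inv_snd]
    infer_instance
  · show LocallyOfFinitePresentation (pullback.snd X.hom U.ι)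
    rw [← (isPullback_morphismRestrict X.hom U).flip.isoPullback_inv_snd]
    infer_instance

theorem exists_smooth_open_of_flat {X : Scheme.{u}} (f : X ⟶ S) [Flat f] [LocallyOfFinitePresentation f] [QuasiCompact f]
    (h : Smooth (pullback.snd f (S.fromSpecResidueField (genericPoint S)))) :
    ∃ U : S.Opens, genericPoint S ∈ U ∧ Smooth (f ∣_ U) := by
  let η₀ := genericPoint S
  have hs : Smooth (pullback.snd f (Scheme.Hom.fiberι (𝟙 S) η₀)) := by
    have e : Scheme.Hom.fiberι (𝟙 S) η₀ =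
        pullback.snd (𝟙 S) (S.fromSpecResidueField η₀) ≫ S.fromSpecResidueField η₀ := by
      show pullback.fst (𝟙 S) (S.fromSpecResidueField η₀) = _
      rw [← pullback.condition, Category.comp_id]
    rw [e]
    exact prop_bc_of_comp @Smooth (S.fromSpecResidueField η₀) _ (Over.mk f) h
  obtain ⟨W, hW, hsm⟩ := S16049.result (𝟙 S) f f (Category.comp_id f) η₀ hs
  obtain ⟨U, hU, hUW⟩ := exists_open_avoid_closed f W.2.isClosed_compl fun x hx hxη => hx (hW x hxη)
  refine ⟨U, hU, ?_⟩
  have hle : f ⁻¹ᵁ U ≤ W := fun x hx => not_not.1 fun hxW => hUW x hxW hx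
  haveI : Smooth ((f ⁻¹ᵁ U).ι ≫ f) := by
    rw [← X.homOfLE_ι hle, Category.assoc]
    infer_instance
  refine MorphismProperty.of_isPullback (P := @Smooth) (g := (f ⁻¹ᵁ U).ι ≫ f)
    (f := Scheme.Opens.ι U) (f' := 𝟙 _) (IsPullback.of_isLimit' ⟨?_⟩ ?_) this
  · rw [Category.id_comp, morphismRestrict_ι]
  · refine Limits.PullbackCone.IsLimit.mk _ (fun s => s.fst) (fun s => Category.comp_id _) (fun s => ?_) (fun s m h1 h2 => ?_)
    · rw [← cancel_mono (Scheme.Opens.ι U), Category.assoc, morphismRestrict_ι, s.condition]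
    · exact (Category.comp_id m).symm.trans h1

theorem exists_smooth_open (X : Over S) [LocallyOfFiniteType X.hom] [QuasiCompact X.hom]
    (h : Smooth (Red.bc (S.fromSpecResidueField (genericPoint S)) X).hom) :
    ∃ U : S.Opens, genericPoint S ∈ U ∧ Smooth (Red.bc U.ι X).hom := by
  obtain ⟨U₁, hη, hfl, hfp⟩ := exists_flat_open X
  haveI : Nonempty ↥(U₁ : Scheme.{u}) := ⟨⟨_, hη⟩⟩
  haveI : IsIntegral (U₁ : Scheme.{u}) := isIntegral_of_isOpenImmersion U₁.ι
  haveI : QuasiCompact (Red.bc U₁.ι X).hom := MorphismProperty.pullback_snd _ _ (inferInstance : QuasiCompact X.hom)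
  let η₁ := genericPoint (U₁ : Scheme.{u})
  have e : U₁.ι η₁ = genericPoint S := genericPoint_eq_of_isOpenImmersion U₁.ι
  have key : ∀ s : S, s = genericPoint S → Smooth (Red.bc (S.fromSpecResidueField s) X).hom := fun s hs => hs ▸ h
  have hs : Smooth (Red.bc ((U₁ : Scheme.{u}).fromSpecResidueField η₁) (Red.bc U₁.ι X)).hom := by
    rw [prop_bc_bc @Smooth, ← Scheme.Hom.SpecMap_residueFieldMap_fromSpecResidueField]
    exact prop_bc_of_comp @Smooth _ _ X (key _ e)
  obtain ⟨V, hV, hVs⟩ := exists_smooth_open_of_flat (Red.bc U₁.ι X).hom hs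
  refine ⟨U₁.ι ''ᵁ V, ⟨_, hV, e⟩, ?_⟩
  have h2 : Smooth (Red.bc V.ι (Red.bc U₁.ι X)).hom := by
    show Smooth (pullback.snd (Red.bc U₁.ι X).hom V.ι)
    rw [← (isPullback_morphismRestrict (Red.bc U₁.ι X).hom V).flip.isoPullback_inv_snd]
    infer_instance
  rw [prop_bc_bc @Smooth] at h2
  have hr : Set.range (U₁.ι ''ᵁ V).ι ⊆ Set.range (V.ι ≫ U₁.ι) := by
    rintro _ ⟨⟨_, v, hv, rfl⟩, rfl⟩
    exact ⟨⟨v, hv⟩, rfl⟩
  rw [← IsOpenImmersion.lift_fac (V.ι ≫ U₁.ι) _ hr]
  exact prop_bc_of_comp @Smooth _ _ X h2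

end Groth.Agent.CommSpreadLib

end
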