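import Groth.Agent.CommSpreadLib.Core
import Groth.Agent.AVLib.GeomInt

/-!
# Spreading out: the good open
-/

set_option autoImplicit false
set_option backward.isDefEq.respectTransparency false
set_option backward.isDefEq.respectTransparency.types false
set_option linter.style.haveILetI false
set_option linter.unusedSectionVars false

universe u v

open CategoryTheory CategoryTheory.Limits MonoidalCategory CartesianMonoidalCategory MonObj AlgebraicGeometry
open Groth.Agent.GenSubLib
open Topology (IsLocallyConstructible)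

noncomputable section

namespace Groth.Agent.CommSpreadLib

variable {S : Scheme.{u}} [IsIntegral S]

/-- Finitely many smooth sources become smooth over one open. -/
theorem exists_smooth_open_family {J : Type v} [Finite J] (X : J → Over S) [∀ j, LocallyOfFiniteType (X j).hom]
    [∀ j, QuasiCompact (X j).hom] (h : ∀ j, Smooth (Red.bc (S.fromSpecResidueField (genericPoint S)) (X j)).hom) :
    ∃ U : S.Opens, genericPoint S ∈ U ∧ ∀ j, Smooth (Red.bc U.ι (X j)).hom := by
  classical
  choose V hV hVs using fun j => exists_smooth_open (X j) (h j)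
  refine ⟨⟨⋂ j, (V j : Set S), isOpen_iInter_of_finite fun j => (V j).2⟩, Set.mem_iInter.2 hV, fun j => ?_⟩
  exact ((thru_ι _).mono (fun x hx => Set.mem_iInter.1 hx j)).prop @Smooth (X j) (hVs j)

variable {G : Over S} [GrpObj G] [LocallyOfFinitePresentation G.hom] [QuasiCompact G.hom] [QuasiSeparated G.hom]
  {J : Type v} [Finite J] {X : J → Over S} [∀ j, LocallyOfFinitePresentation (X j).hom]
  [∀ j, QuasiCompact (X j).hom]

set_option maxHeartbeats 1000000 in
/-- A smooth subgroup of the generic fibre covered by finitely many words spreads out. -/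
theorem exists_spread (f : ∀ j, X j ⟶ G)
    (hsm : ∀ j, Smooth (Red.bc (S.fromSpecResidueField (genericPoint S)) (X j)).hom)
    (Ls : Finset (List (J × Bool))) {Γ : Over (Spec (S.residueField (genericPoint S)))} [GrpObj Γ]
    (i : Γ ⟶ Red.bc (S.fromSpecResidueField (genericPoint S)) G) [IsMonHom i] [IsClosedImmersion i.left] [Smooth Γ.hom]
    (hr : Set.range i.left = eset (fun j => (Over.pullback (S.fromSpecResidueField (genericPoint S))).map (f j)) Ls)
    (hfac : ∀ j, ∃ q : Red.bc (S.fromSpecResidueField (genericPoint S)) (X j) ⟶ Γ,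
      q ≫ i = (Over.pullback (S.fromSpecResidueField (genericPoint S))).map (f j))
    (U₀ : S.Opens) (hU₀ : genericPoint S ∈ U₀) :
    ∃ U : S.Opens, U ≤ U₀ ∧ genericPoint S ∈ U ∧
      ∀ {S' : Scheme.{u}} (τ : S' ⟶ S), Thru U τ →
        Out G X f Ls (AlgGrp.IsNormalHom i) τ ∧ ∀ j, Smooth (Red.bc τ (X j)).hom := by
  classical
  let η₀ := genericPoint S
  let σ := S.fromSpecResidueField η₀
  let E := eset f Ls
  -- the reduced closed subscheme
  let C : TopologicalSpace.Closeds G.left := ⟨closure E, isClosed_closure⟩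
  let I := Scheme.IdealSheafData.vanishingIdeal C
  let Z : Over S := Over.mk (I.subschemeι ≫ G.hom)
  let z : Z ⟶ G := Over.homMk I.subschemeι rfl
  haveI : IsClosedImmersion z.left := inferInstanceAs (IsClosedImmersion I.subschemeι)
  haveI : IsReduced Z.left := DVRCrit.isReduced_vanishingIdeal C
  haveI : LocallyOfFiniteType Z.hom := inferInstanceAs (LocallyOfFiniteType (I.subschemeι ≫ G.hom))
  haveI : QuasiCompact Z.hom := inferInstanceAs (QuasiCompact (I.subschemeι ≫ G.hom))
  haveI : QuasiSeparated Z.hom := inferInstanceAs (QuasiSeparated (I.subschemeι ≫ G.hom))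
  have hz : Set.range z.left = closure E := by
    show Set.range I.subschemeι = _
    rw [I.range_subschemeι, Scheme.IdealSheafData.coe_support_vanishingIdeal]
    rfl
  -- the generic fibre
  have hEσ : pullback.fst G.hom σ ⁻¹' E = Set.range i.left := by rw [hr, eset_bc σ f Ls]
  have hfib : pullback.fst G.hom σ ⁻¹' closure E = pullback.fst G.hom σ ⁻¹' E := by
    refine Set.Subset.antisymm (fun x hx => ?_) (Set.preimage_mono subset_closure)
    simp only [Set.mem_preimage, E, eset, Ls.finite_toSet.closure_biUnion, ← Finset.mem_coe] at hx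
    obtain ⟨l, hl, hxl⟩ := Set.mem_iUnion₂.1 hx
    haveI := (props_word f l).2
    obtain ⟨w, -, hs⟩ := FlatLocus.exists_specializes_of_mem_closure_image (word f l).left isClosed_univ
      (show _ ∈ closure ((word f l).left '' Set.univ) by rw [Set.image_univ]; exact hxl)
    have hη : G.hom ((word f l).left w) = η₀ := by
      have h1 := hs.map G.hom.continuous
      have h2 : G.hom (pullback.fst G.hom σ x) = η₀ := by
        rw [← Scheme.Hom.comp_apply, pullback.condition, Scheme.Hom.comp_apply]
        exact Scheme.fromSpecResidueField_apply _ _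
      rw [h2] at h1
      exact (h1.antisymm (genericPoint_specializes _)).eq
    obtain ⟨x', hx'⟩ : (word f l).left w ∈ Set.range (pullback.fst G.hom σ) := by
      rw [Scheme.Pullback.range_fst, Scheme.range_fromSpecResidueField]
      exact hη
    have hemb := (pullback.fst G.hom σ).isEmbedding
    have hs' : x' ⤳ x := hemb.isInducing.specializes_iff.1 (by rw [hx']; exact hs)
    have hx'E : x' ∈ Set.range i.left := by
      rw [← hEσ, Set.mem_preimage, hx']
      exact Set.mem_biUnion hl ⟨w, rfl⟩
    have := hs'.mem_closed i.left.isClosedEmbedding.isClosed_range hx'E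
    rwa [← hEσ] at this
  have hzσ : Set.range ((Over.pullback σ).map z).left = Set.range i.left := by
    rw [range_map_eq, hz, hfib, hEσ]
  haveI : IsClosedImmersion ((Over.pullback σ).map z).left :=
    MorphismProperty.of_isPullback (isPullback_map σ z).flip ‹IsClosedImmersion z.left›
  haveI : IsReduced (Red.bc σ Z).left :=
    S1471.isReduced_fiber_of_max Z.hom η₀ fun y hy => (hy.antisymm (genericPoint_specializes y)).eq
  haveI : IsReduced Γ.left := by
    haveI := AVLib.geometricallyReduced_of_smooth Γ.hom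
    exact GenSubLib.isReduced_self Γ
  obtain ⟨r₁, hr₁⟩ := GenSubLib.exists_lift_of_range i ((Over.pullback σ).map z) hzσ.le
  obtain ⟨r₂, hr₂⟩ := GenSubLib.exists_lift_of_range ((Over.pullback σ).map z) i hzσ.ge
  haveI : Mono i := Over.mono_of_mono_left i
  haveI : Mono ((Over.pullback σ).map z) := Over.mono_of_mono_left _
  let e : Red.bc σ Z ≅ Γ := ⟨r₁, r₂, by rw [← cancel_mono ((Over.pullback σ).map z), Category.assoc, hr₂, hr₁, Category.id_comp],
    by rw [← cancel_mono i, Category.assoc, hr₁, hr₂, Category.id_comp]⟩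
  have hsmZ : Smooth (Red.bc σ Z).hom := by
    haveI : IsIso e.hom.left := ((Over.forget _).mapIso e).isIso_hom
    rw [← Over.w e.hom]
    infer_instance
  -- the opens
  obtain ⟨U₁, h1η, hGf, -⟩ := exists_flat_open G
  obtain ⟨U₂, h2η, hZs⟩ := exists_smooth_open Z hsmZ
  obtain ⟨U₃, h3η, hXs⟩ := exists_smooth_open_family X hsm
  -- where the closure is just the union
  let W := U₀ ⊓ U₁ ⊓ U₂ ⊓ U₃
  have hWη : genericPoint S ∈ W := ⟨⟨⟨hU₀, h1η⟩, h2η⟩, h3η⟩
  haveI : Smooth (Red.bc W.ι Z).hom :=
    ((thru_ι W).mono (inf_le_left.trans inf_le_right)).prop @Smooth Z hZs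
  haveI : QuasiCompact (Red.bc W.ι Z).hom := MorphismProperty.pullback_snd _ _ (inferInstance : QuasiCompact Z.hom)
  let q : (Red.bc W.ι Z).left ⟶ G.left := pullback.fst Z.hom W.ι ≫ z.left
  have hlc : IsLocallyConstructible (q ⁻¹' E) := by
    simp only [E, eset, Set.preimage_iUnion, ← Finset.mem_coe]
    refine Topology.IsLocallyConstructible.biUnion Ls.finite_toSet fun l _ => ?_
    obtain ⟨_, _⟩ := props_word f l
    haveI : LocallyOfFinitePresentation (pullback.fst q (word f l).left) :=
      MorphismProperty.pullback_fst _ _ ‹_›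
    haveI : QuasiCompact (pullback.fst q (word f l).left) := MorphismProperty.pullback_fst _ _ ‹_›
    rw [← Scheme.Pullback.range_fst, ← Set.image_univ]
    exact (pullback.fst q (word f l).left).isLocallyConstructible_image Topology.IsLocallyConstructible.univ
  have hbad := (Red.bc W.ι Z).hom.isLocallyConstructible_image (isLocallyConstructible_compl hlc)
  haveI : Nonempty ↥(W : Scheme.{u}) := ⟨⟨_, hWη⟩⟩
  haveI : IsIntegral (W : Scheme.{u}) := isIntegral_of_isOpenImmersion W.ι
  have hηW : W.ι (genericPoint (W : Scheme.{u})) = η₀ := genericPoint_eq_of_isOpenImmersion W.ι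
  obtain ⟨V, hVη, hV⟩ := exists_open_avoid hbad (by
    rintro ⟨p, hp, hpη⟩
    refine hp (Set.mem_preimage.2 ?_)
    have hpS : G.hom (q p) = η₀ := by
      show G.hom (z.left (pullback.fst Z.hom W.ι p)) = η₀
      rw [← Scheme.Hom.comp_apply z.left, Over.w z, ← Scheme.Hom.comp_apply, pullback.condition, Scheme.Hom.comp_apply]
      exact (congrArg W.ι hpη).trans hηW
    obtain ⟨x, hx⟩ : q p ∈ Set.range (pullback.fst G.hom σ) := by
      rw [Scheme.Pullback.range_fst, Scheme.range_fromSpecResidueField]
      exact hpS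
    have h2 : x ∈ pullback.fst G.hom σ ⁻¹' closure E := by
      rw [Set.mem_preimage, hx, ← hz]
      exact ⟨pullback.fst Z.hom W.ι p, rfl⟩
    rw [hfib, Set.mem_preimage, hx] at h2
    exact h2)
  let U := W.ι ''ᵁ V
  have hUW : U ≤ W := fun x hx => by obtain ⟨y, -, rfl⟩ := hx; exact y.2
  have hW₀ : W ≤ U₀ := inf_le_left.trans (inf_le_left.trans inf_le_left)
  refine ⟨U, hUW.trans hW₀, ⟨_, hVη, hηW⟩, fun {S'} τ hτ => ?_⟩
  have hτW : Thru W τ := hτ.mono hUW
  refine ⟨?_, fun j => (hτW.mono inf_le_right).prop @Smooth (X j) (hXs j)⟩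
  have hfl : ∀ Y : Over S, Smooth (Red.bc W.ι Y).hom → Flat (Red.bc W.ι Y).hom := fun Y h => inferInstance
  obtain ⟨hD, hd, hn, hfacτ⟩ := exists_subgroup z i e hr₁
    (((thru_ι W).mono (inf_le_left.trans (inf_le_left.trans inf_le_right))).prop @Flat G hGf)
    (hfl Z inferInstance) τ hτW
  haveI : IsClosedImmersion ((Over.pullback τ).map z).left :=
    MorphismProperty.of_isPullback (isPullback_map τ z).flip ‹IsClosedImmersion z.left›
  refine ⟨Red.bc τ Z, hD, (Over.pullback τ).map z, hd, inferInstance, hτW.prop @Smooth Z inferInstance,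
    MorphismProperty.pullback_snd _ _ (inferInstance : QuasiCompact Z.hom),
    MorphismProperty.pullback_snd _ _ (inferInstance : QuasiSeparated Z.hom), ?_, fun j => ?_, hn⟩
  · rw [range_map_eq, hz, eset_bc τ f Ls]
    refine Set.Subset.antisymm (fun x hx => ?_) (Set.preimage_mono subset_closure)
    rw [Set.mem_preimage, ← hz] at hx
    obtain ⟨p, hp⟩ := hx
    obtain ⟨g, hg⟩ := hτ
    have hpU : Z.hom p ∈ U := by
      rw [← Over.w z, Scheme.Hom.comp_apply, hp, ← Scheme.Hom.comp_apply, pullback.condition, Scheme.Hom.comp_apply]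
      have h3 : ∀ y, τ y ∈ U := fun y => (congrArg (fun φ => φ y) hg) ▸ (g y).2
      exact h3 _
    obtain ⟨v, hv, hvp⟩ := hpU
    obtain ⟨p', hp', hp''⟩ := Scheme.exists_preimage_of_isPullback (IsPullback.of_hasPullback Z.hom W.ι) p v hvp.symm
    have hgood : p' ∈ q ⁻¹' E := not_not.1 fun hne => hV v hv ⟨p', hne, hp''⟩
    show pullback.fst G.hom τ x ∈ E
    rw [← hp]
    simpa [q, hp'] using hgood
  · refine hfacτ (X j) (f j) (hfl _ (((thru_ι W).mono inf_le_right).prop @Smooth (X j) (hXs j))) ?_
    exact hfac j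

end Groth.Agent.CommSpreadLib

end
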